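/-
Subgroups containing root elements and monomial elements: certified closures; two-element generation.
-/
import Cfsg.Agent.Lib.Chev.Simple
import Cfsg.Agent.Lib.Chev.Twist.Gen
import Cfsg.Agent.Lib.Chev.WeylN
import Mathlib.FieldTheory.Finite.Basic

set_option autoImplicit false

namespace CfsgLib.Chev.TwoGen

open Cfsg.Lie Matrix

variable {D : ChevalleyDatum} {A : Aux} {F : Type*} [Field F]

/-- the whole root group lies in `X` -/
def Full (g : Good D A) (X : Subgroup (GL D.Idx F)) (r : ℕ) : Prop := ∀ t : F, xG g r t ∈ X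

lemma conj_word (g : Good D A) {X : Subgroup (GL D.Idx F)} {w : List ℕ} (hw : Letters D w)
    (hn : nW F g w ∈ X) {r : ℕ} (hr : r < D.nroots) {t : F} (ht : xG g r t ∈ X) :
    xG g (wf A w r) ((sgnW A w r : F) * t) ∈ X := by
  rw [← nW_conj_xG g hw hr t]
  exact mul_mem (mul_mem hn ht) (inv_mem hn)

lemma sgnW_cases (g : Good D A) : ∀ {w : List ℕ}, Letters D w → ∀ {r : ℕ}, r < D.nroots →
    sgnW A w r = 1 ∨ sgnW A w r = -1
  | [], _, _, _ => Or.inl rfl
  | i :: w, hw, r, hr => by
    rcases sgnW_cases g hw.tail hr with h | h <;>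
      rcases g.eta_sign i hw.head _ (wf_lt g hw.tail hr) with h' | h' <;> simp [sgnW, h, h']

lemma Full.img {g : Good D A} {X : Subgroup (GL D.Idx F)} {w : List ℕ} (hw : Letters D w)
    (hn : nW F g w ∈ X) {r : ℕ} (hr : r < D.nroots) (h : Full g X r) : Full g X (wf A w r) := by
  intro t
  rcases sgnW_cases g hw hr with e | e
  · simpa [e] using conj_word g hw hn hr (h t)
  · simpa [e] using conj_word g hw hn hr (h (-t))

lemma full_term (h : Std D A) {X : Subgroup (GL D.Idx F)} {p r s : ℕ} (hr : r < D.nroots)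
    (hs : s < D.nroots) {c : ℤ} (hsr : s ≠ r) (hsn : s ≠ A.neg r)
    (e : A.terms r s = [(p, c, 1, 1)]) (hc : (c : F) ≠ 0) (fr : Full h.good X r)
    (fs : Full h.good X s) : Full h.good X p :=
  fun t => Subgroup.commutator_le_self X (comm_root h hr hs hsr hsn e hc (fr _) (fs _))

variable (D A) in
/-- a closing step: the image under a word, or a single-term commutator -/
noncomputable def stepOK (two : Bool) (ws : List (List ℕ)) (known : List ℕ) :
    ℕ × ℕ × ℕ × ℕ → Bool
  | (p, k, r, s) => known.contains r && decide (p < D.nroots) &&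
      (if k < ws.length then decide (wf A (ws.getD k []) r = p)
       else known.contains s && (unitTerm A p r s || (two && twoTerm A p r s)))

variable (D A) in
/-- the steps close `known` up to all roots -/
noncomputable def closeCheck (two : Bool) (ws : List (List ℕ)) :
    List (ℕ × ℕ × ℕ × ℕ) → List ℕ → Bool
  | [], known => (List.range D.nroots).all fun r => known.contains r
  | q :: l, known => stepOK D A two ws known q && closeCheck two ws l (q.1 :: known)

lemma full_step (h : Std D A) {X : Subgroup (GL D.Idx F)} {two : Bool}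
    (h2 : two = true → (2 : F) ≠ 0) {ws : List (List ℕ)} (hws : ∀ w ∈ ws, Letters D w)
    (hn : ∀ w ∈ ws, nW F h.good w ∈ X) {known : List ℕ} (hlt : ∀ r ∈ known, r < D.nroots)
    (hk : ∀ r ∈ known, Full h.good X r) {q : ℕ × ℕ × ℕ × ℕ}
    (hq : stepOK D A two ws known q = true) : Full h.good X q.1 ∧ q.1 < D.nroots := by
  obtain ⟨p, k, r, s⟩ := q
  simp only [stepOK, Bool.and_eq_true, List.contains_iff_mem, decide_eq_true_eq] at hq
  obtain ⟨⟨hr, hp⟩, hq⟩ := hq
  refine ⟨?_, hp⟩
  show Full h.good X p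
  split_ifs at hq with hk'
  · have hmem : ws.getD k [] ∈ ws := by
      rw [List.getD_eq_getElem _ _ hk']; exact List.getElem_mem _
    rw [decide_eq_true_eq] at hq
    exact hq ▸ (hk r hr).img (hws _ hmem) (hn _ hmem) (hlt r hr)
  · simp only [Bool.and_eq_true, Bool.or_eq_true, List.contains_iff_mem, unitTerm, twoTerm,
      decide_eq_true_eq] at hq
    obtain ⟨hs, hq⟩ := hq
    rcases hq with ⟨a, b, e | e⟩ | ⟨ht, a, b, e | e⟩
    · exact full_term h (hlt r hr) (hlt s hs) a b e (by simp) (hk r hr) (hk s hs)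
    · exact full_term h (hlt r hr) (hlt s hs) a b e (by simp) (hk r hr) (hk s hs)
    · exact full_term h (hlt r hr) (hlt s hs) a b e (by simpa using h2 ht) (hk r hr) (hk s hs)
    · exact full_term h (hlt r hr) (hlt s hs) a b e (by simpa using h2 ht) (hk r hr) (hk s hs)

/-- a certified closure generates the group -/
theorem group_le (h : Std D A) {X : Subgroup (GL D.Idx F)} {two : Bool}
    (h2 : two = true → (2 : F) ≠ 0) {ws : List (List ℕ)} (hws : ∀ w ∈ ws, Letters D w)
    (hn : ∀ w ∈ ws, nW F h.good w ∈ X) :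
    ∀ {l : List (ℕ × ℕ × ℕ × ℕ)} {known : List ℕ}, (∀ r ∈ known, r < D.nroots) →
      (∀ r ∈ known, Full h.good X r) → closeCheck D A two ws l known = true → D.group F ≤ X
  | [], known, _, hk, hc => by
    simp only [closeCheck, List.all_eq_true, List.mem_range, List.contains_iff_mem] at hc
    rw [group_eq h.good, Subgroup.closure_le]
    rintro y ⟨r, t, hr, rfl⟩
    exact hk r (hc r hr) t
  | q :: l, known, hlt, hk, hc => by
    simp only [closeCheck, Bool.and_eq_true] at hc
    obtain ⟨hf, hp⟩ := full_step h h2 hws hn hlt hk hc.1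
    refine group_le h h2 hws hn (l := l) (known := q.1 :: known) ?_ ?_ hc.2
    · exact List.forall_mem_cons.2 ⟨hp, hlt⟩
    · exact List.forall_mem_cons.2 ⟨hf, hk⟩

lemma nW_mem_group (g : Good D A) {w : List ℕ} (hw : Letters D w) : nW F g w ∈ D.group F :=
  monomialSubgroup_le_group g (nW_mem g hw)

/-- two elements generating a group inside `GL` -/
lemma exists_pair_of {G : Type*} [Group G] {H : Subgroup G} {a b : G} (ha : a ∈ H) (hb : b ∈ H)
    (hle : H ≤ Subgroup.closure {a, b}) :
    ∃ x y : H, Subgroup.closure ({x, y} : Set H) = ⊤ := by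
  refine ⟨⟨a, ha⟩, ⟨b, hb⟩, eq_top_iff.2 fun z _ => ?_⟩
  have : (z : G) ∈ (Subgroup.closure ({⟨a, ha⟩, ⟨b, hb⟩} : Set H)).map H.subtype := by
    rw [MonoidHom.map_closure, Set.image_pair]
    exact hle z.2
  obtain ⟨w, hw, e⟩ := this
  exact (Subtype.ext e : w = z) ▸ hw

/-- commuting elements of coprime orders are powers of their product -/
lemma mem_of_mul {G : Type*} [Group G] {X : Subgroup G} {x z : G} {p m : ℕ} (hxz : Commute x z)
    (hx : x ^ p = 1) (hz : z ^ m = 1) (hpm : p.Coprime m) (h : x * z ∈ X) : x ∈ X ∧ z ∈ X := by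
  have hx' : x ∈ X := by
    have hz' : z ^ (m : ℤ) = 1 := by rw [zpow_natCast, hz]
    have hx'' : x ^ (p : ℤ) = 1 := by rw [zpow_natCast, hx]
    have hb := Nat.gcd_eq_gcd_ab p m
    rw [hpm.gcd_eq_one, Nat.cast_one] at hb
    have key : x = (x * z) ^ ((m : ℤ) * Nat.gcdB p m) := by
      rw [hxz.mul_zpow, _root_.zpow_mul z, hz', _root_.one_zpow, mul_one]
      conv_lhs => rw [← zpow_one x, hb]
      rw [_root_.zpow_add, _root_.zpow_mul, hx'', _root_.one_zpow, one_mul]
    rw [key]
    exact zpow_mem h _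
  exact ⟨hx', by simpa using mul_mem (inv_mem hx') h⟩

lemma xG_pow (g : Good D A) (r : ℕ) (t : F) : ∀ k : ℕ, xG g r t ^ k = xG g r ((k : F) * t)
  | 0 => by simp [xG_zero]
  | k + 1 => by rw [pow_succ, xG_pow g r t k, xG_add]; push_cast; ring_nf

/-- small fields: one non-trivial root element gives the root group -/
lemma full_of_one (g : Good D A) (hF : ∀ t : F, t = 0 ∨ t = 1 ∨ t = -1)
    {X : Subgroup (GL D.Idx F)} {r : ℕ} {c : F} (hc : c ≠ 0) (h : xG g r c ∈ X) : Full g X r := by
  intro t
  have hneg : xG g r (-c) ∈ X := by rw [← xG_inv]; exact inv_mem h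
  have hzero : xG g r (0 : F) ∈ X := by rw [xG_zero]; exact one_mem X
  rcases hF c with rfl | rfl | rfl
  · exact absurd rfl hc
  · rcases hF t with rfl | rfl | rfl <;> assumption
  · rw [neg_neg] at hneg
    rcases hF t with rfl | rfl | rfl <;> assumption

end CfsgLib.Chev.TwoGen
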