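/-
Extraction of a root group from a torus element and a root element times a monomial element.
-/
import Cfsg.Agent.Lib.Chev.TwoGen.Engine

set_option autoImplicit false

namespace CfsgLib.Chev.TwoGen

open Cfsg.Lie Matrix

variable {D : ChevalleyDatum} {A : Aux} {F : Type*} [Field F]

/-- an additive subgroup stable under the multiplication by a small power of a generator -/
theorem addSubgroup_top [Finite F] {κ : Fˣ} (hκ : ∀ x : Fˣ, x ∈ Subgroup.zpowers κ) {m : ℤ}
    (hm : m ∈ [1, -1, 2, -2]) {S : AddSubgroup F} (hS : ∀ x ∈ S, ((κ ^ m : Fˣ) : F) * x ∈ S)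
    {e : F} (he : e ∈ S) (he0 : e ≠ 0) (t : F) : t ∈ S := by
  classical
  have := Fintype.ofFinite F
  have hpow : ∀ (k : ℕ) (x : F), x ∈ S → (((κ ^ m) ^ k : Fˣ) : F) * x ∈ S := by
    intro k
    induction k with
    | zero => intro x hx; simpa using hx
    | succ k ih =>
      intro x hx
      rw [pow_succ, Units.val_mul, mul_assoc]
      exact ih _ (hS x hx)
  have hsq : ∀ a : F, a * a * e ∈ S := by
    intro a
    rcases eq_or_ne a 0 with rfl | ha
    · simp
    obtain ⟨j, hj⟩ := hκ (Units.mk0 a ha)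
    obtain ⟨l, hl⟩ : ∃ l : ℤ, m * l = 2 * j := by
      simp only [List.mem_cons, List.not_mem_nil, or_false] at hm
      rcases hm with rfl | rfl | rfl | rfl
      exacts [⟨2 * j, by ring⟩, ⟨-(2 * j), by ring⟩, ⟨j, by ring⟩, ⟨-j, by ring⟩]
    have hmem : κ ^ (2 * j) ∈ Submonoid.powers (κ ^ m) := by
      refine mem_powers_iff_mem_zpowers.2 ?_
      exact ⟨l, by simp only [← _root_.zpow_mul, hl]⟩
    obtain ⟨k, hk⟩ := hmem
    have h2 : ((κ ^ (2 * j) : Fˣ) : F) = a * a := by
      rw [two_mul, _root_.zpow_add, show κ ^ j = Units.mk0 a ha from hj]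
      simp
    rw [← h2, ← hk]
    exact hpow k e he
  obtain ⟨p, hp⟩ := CharP.exists F
  haveI := hp
  have hp' : Fact p.Prime := ⟨CharP.char_is_prime F p⟩
  set c := t / e with hc
  obtain ⟨a, b, hab⟩ : ∃ a b : F, a * a + b * b = c := by
    by_cases hch : ringChar F = 2
    · obtain ⟨a, ha⟩ := FiniteField.isSquare_of_char_two hch c
      exact ⟨a, 0, by rw [ha]; ring⟩
    · have hodd := FiniteField.odd_card_of_char_ne_two hch
      obtain ⟨a, b, hab⟩ := FiniteField.exists_root_sum_quadratic (R := F)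
        (f := Polynomial.X ^ 2) (g := Polynomial.X ^ 2 - Polynomial.C c) (Polynomial.degree_X_pow 2)
        (Polynomial.degree_X_pow_sub_C two_pos c) hodd
      exact ⟨a, b, by
        simp only [Polynomial.eval_pow, Polynomial.eval_X, Polynomial.eval_sub, Polynomial.eval_C]
          at hab
        linear_combination hab⟩
  have := add_mem (hsq a) (hsq b)
  rwa [← add_mul, hab, hc, div_mul_cancel₀ _ he0] at this

/-- the parameters of the root elements in a subgroup -/
noncomputable def params (g : Good D A) (X : Subgroup (GL D.Idx F)) (r : ℕ) : AddSubgroup F where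
  carrier := {t | xG g r t ∈ X}
  add_mem' {a b} ha hb := by
    show xG g r (a + b) ∈ X
    rw [← xG_add]; exact mul_mem ha hb
  zero_mem' := by show xG g r (0 : F) ∈ X; rw [xG_zero]; exact one_mem X
  neg_mem' {a} ha := by
    show xG g r (-a) ∈ X
    rw [← xG_inv]; exact inv_mem ha

/-- the exponents -/
noncomputable def pair (D : ChevalleyDatum) (A : Aux) (v : List ℤ) (r : ℕ) : ℤ :=
  ((List.range D.rank).map fun i => v.getD i 0 * A.cart i r).sum

/-- the torus element with exponents `v` -/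
noncomputable def expT (D : ChevalleyDatum) (v : List ℤ) (κ : Fˣ) : Fin D.rank → Fˣ :=
  fun i => κ ^ v.getD i.val 0

lemma chi_expT (v : List ℤ) (κ : Fˣ) (r : ℕ) : chi D A (expT D v κ) r = κ ^ pair D A v r := by
  have key : ∀ n : ℕ, ∏ i : Fin n, (κ ^ v.getD i.val 0) ^ A.cart i.val r =
      κ ^ ((List.range n).map fun i => v.getD i 0 * A.cart i r).sum := by
    intro n
    induction n with
    | zero => simp
    | succ n ih =>
      rw [Fin.prod_univ_castSucc, List.range_succ, List.map_append, List.sum_append, _root_.zpow_add]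
      simp only [Fin.val_castSucc]
      rw [ih]
      simp [← _root_.zpow_mul]
  exact key D.rank

lemma tor_mem_group (g : Good D A) (c : Fin D.rank → Fˣ) : tor D A c ∈ D.group F :=
  diagonalSubgroup_le_group g (by rw [diagonalSubgroup_eq g]; exact ⟨c, rfl⟩)

lemma full_of_char [Finite F] (g : Good D A) {X : Subgroup (GL D.Idx F)} {c : Fin D.rank → Fˣ}
    {r : ℕ} (hr : r < D.nroots) (hc : tor D A c ∈ X) {κ : Fˣ}
    (hκ : ∀ x : Fˣ, x ∈ Subgroup.zpowers κ) {m : ℤ} (hm : m ∈ [1, -1, 2, -2])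
    (hchi : chi D A c r = κ ^ m) {e : F} (he : e ≠ 0) (hx : xG g r e ∈ X) : Full g X r := by
  intro t
  refine addSubgroup_top hκ hm (S := params g X r) (fun x hx' => ?_) hx he t
  show xG g r _ ∈ X
  rw [← hchi, ← tor_conj_xG g c hr x]
  exact mul_mem (mul_mem hc hx') (inv_mem hc)

/-- from `h` and `x_β(1) n` to the root group at `β` and to `n` -/
theorem extract [Finite F] (h : Std D A) {X : Subgroup (GL D.Idx F)} {w : List ℕ}
    (hw : Letters D w) {c : Fin D.rank → Fˣ} (hc : tor D A c ∈ X) {β r₀ : ℕ}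
    (hr₀ : r₀ < D.nroots) (hwr : wf A w r₀ = β) {κ : Fˣ}
    (hκ : ∀ x : Fˣ, x ∈ Subgroup.zpowers κ) {m m' : ℤ} (hm : m ∈ [1, -1, 2, -2])
    (hchi : chi D A c β = κ ^ m) (hchi' : chi D A c r₀ = κ ^ m') (h1 : κ ^ m ≠ 1)
    (h1' : κ ^ m' ≠ 1) (hb : xG h.good β 1 * nW F h.good w ∈ X) :
    Full h.good X β ∧ nW F h.good w ∈ X := by
  have g := h.good
  have hβ : β < D.nroots := hwr ▸ wf_lt h.good hw hr₀
  set n := nW F h.good w with hn
  obtain ⟨d, hd⟩ := monomial_conj_tor h.good (nW_mem (F := F) h.good hw) c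
  set H := (tor D A c : GL D.Idx F) with hH
  set H' := (tor D A d : GL D.Idx F) with hH'
  replace hd : n * H * n⁻¹ = H' := hd
  set k : F := ((κ ^ m : Fˣ) : F) with hk
  set k' : F := ((κ ^ m' : Fˣ) : F) with hk'
  have hk0 : k' ≠ 0 := Units.ne_zero _
  have e1 : ∀ t : F, H * xG h.good β t * H⁻¹ = xG h.good β (k * t) := fun t => by
    rw [hH, tor_conj_xG h.good c hβ, hchi]
  have e2 : ∀ t : F, H' * xG h.good β t * H'⁻¹ = xG h.good β (k' * t) := by
    intro t
    have hs := sgnW_cases h.good hw hr₀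
    set s : F := (sgnW A w r₀ : F) with hsdef
    have hs2 : s * s = 1 := by rcases hs with e | e <;> simp [hsdef, e]
    have a1 : n * xG h.good r₀ (s * t) * n⁻¹ = xG h.good β t := by
      rw [hn, nW_conj_xG h.good hw hr₀, hwr, ← hsdef, ← mul_assoc, hs2, one_mul]
    have a2 : H * xG h.good r₀ (s * t) * H⁻¹ = xG h.good r₀ (k' * (s * t)) := by
      rw [hH, tor_conj_xG h.good c hr₀, hchi']
    rw [← a1, ← hd, show n * H * n⁻¹ * (n * xG h.good r₀ (s * t) * n⁻¹) * (n * H * n⁻¹)⁻¹ =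
      n * (H * xG h.good r₀ (s * t) * H⁻¹) * n⁻¹ by group, a2, hn, nW_conj_xG h.good hw hr₀, hwr,
      ← hsdef]
    congr 1
    linear_combination (k' * t) * hs2
  have hcomm : H * H' = H' * H := tor_mul_comm c d
  set x : GL D.Idx F := xG h.good β 1 with hx
  have hP : x * H' * x⁻¹ ∈ X := by
    have := mul_mem (mul_mem hb hc) (inv_mem hb)
    rwa [show x * n * H * (x * n)⁻¹ = x * (n * H * n⁻¹) * x⁻¹ by group, hd] at this
  have e3 : ∀ t : F, H'⁻¹ * xG h.good β t * H' = xG h.good β (k'⁻¹ * t) := fun t => by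
    have := e2 (k'⁻¹ * t)
    rw [← mul_assoc, mul_inv_cancel₀ hk0, one_mul] at this
    rw [← this]
    group
  have hsimp : (x * H' * x⁻¹)⁻¹ * (H * (x * H' * x⁻¹) * H⁻¹) =
      xG h.good β (1 + k'⁻¹ * (-1 + k) + -k) := by
    have a1 : H * x⁻¹ * H⁻¹ = xG h.good β (-k) := by
      rw [hx, xG_inv, e1, mul_neg, mul_one]
    have a2 : H * x * H⁻¹ = xG h.good β k := by rw [hx, e1, mul_one]
    have a3 : H * H' * H⁻¹ = H' := by rw [hcomm, mul_inv_cancel_right]
    have a4 : H'⁻¹ * (x⁻¹ * xG h.good β k) * H' = xG h.good β (k'⁻¹ * (-1 + k)) := by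
      rw [hx, xG_inv, xG_add, e3]
    rw [show H * (x * H' * x⁻¹) * H⁻¹ = (H * x * H⁻¹) * (H * H' * H⁻¹) * (H * x⁻¹ * H⁻¹) by group,
      a1, a2, a3, show (x * H' * x⁻¹)⁻¹ * (xG h.good β k * H' * xG h.good β (-k)) =
        x * (H'⁻¹ * (x⁻¹ * xG h.good β k) * H') * xG h.good β (-k) by group, a4, hx, xG_add, xG_add]
  have hmem : xG h.good β (1 + k'⁻¹ * (-1 + k) + -k) ∈ X :=
    hsimp ▸ mul_mem (inv_mem hP) (mul_mem (mul_mem hc hP) (inv_mem hc))
  have hne : (1 + k'⁻¹ * (-1 + k) + -k) ≠ 0 := by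
    rw [show 1 + k'⁻¹ * (-1 + k) + -k = (k - 1) * (k'⁻¹ - 1) by ring]
    refine mul_ne_zero (sub_ne_zero.2 ?_) (sub_ne_zero.2 ?_)
    · rw [hk, Units.val_eq_one.ne]; exact h1
    · rw [Ne, inv_eq_one, hk', Units.val_eq_one]; exact h1'
  have hfull := full_of_char h.good hβ hc hκ hm hchi hne hmem
  refine ⟨hfull, ?_⟩
  have := mul_mem (inv_mem (hfull 1)) hb
  rwa [← hx, inv_mul_cancel_left] at this

lemma pow_small_ne_one [Fintype F] (h4 : 4 ≤ Fintype.card F) {κ : Fˣ}
    (hκ : ∀ x : Fˣ, x ∈ Subgroup.zpowers κ) {m : ℤ} (hm : m ∈ [1, -1, 2, -2]) : κ ^ m ≠ 1 := by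
  classical
  have ho : orderOf κ = Fintype.card F - 1 := by
    rw [orderOf_eq_card_of_forall_mem_zpowers hκ, Nat.card_units, Nat.card_eq_fintype_card]
  intro e
  have hd := orderOf_dvd_iff_zpow_eq_one.2 e
  simp only [List.mem_cons, List.not_mem_nil, or_false] at hm
  have : orderOf κ ∣ 2 := by
    rcases hm with rfl | rfl | rfl | rfl <;> [skip; rw [dvd_neg] at hd; skip; rw [dvd_neg] at hd]
    · exact (Int.natCast_dvd_natCast.1 hd).trans (one_dvd 2)
    · exact (Int.natCast_dvd_natCast.1 hd).trans (one_dvd 2)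
    · exact Int.natCast_dvd_natCast.1 hd
    · exact Int.natCast_dvd_natCast.1 hd
  have := Nat.le_of_dvd two_pos this
  omega

variable (D A) in
/-- the certificate for fields with at least four elements -/
noncomputable def bigCheck (v : List ℤ) (α β r₀ : ℕ) (w : List ℕ)
    (l : List (ℕ × ℕ × ℕ × ℕ)) : Bool :=
  decide (α < D.nroots ∧ r₀ < D.nroots ∧ (∀ i ∈ w, i < D.rank) ∧ wf A w r₀ = β ∧
    pair D A v α = 0 ∧ pair D A v β ∈ [(1 : ℤ), -1, 2, -2] ∧
    pair D A v r₀ ∈ [(1 : ℤ), -1, 2, -2] ∧ pair D A v (wf A w α) ∈ [(1 : ℤ), -1, 2, -2]) &&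
  closeCheck D A false [w] l [wf A w α, β]

/-- two generators over a field with at least four elements -/
theorem two_gen [Fintype F] (h : Std D A) {v : List ℤ} {α β r₀ : ℕ} {w : List ℕ}
    {l : List (ℕ × ℕ × ℕ × ℕ)} (hchk : bigCheck D A v α β r₀ w l = true)
    (h4 : 4 ≤ Fintype.card F) :
    ∃ a b : ↥(D.group F), Subgroup.closure ({a, b} : Set ↥(D.group F)) = ⊤ := by
  classical
  simp only [bigCheck, Bool.and_eq_true, decide_eq_true_eq] at hchk
  obtain ⟨⟨hα, hr₀, hw, hwr, hpα, hpβ, hpr, hpα'⟩, hcl⟩ := hchk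
  have g := h.good
  obtain ⟨κ, hκ⟩ := IsCyclic.exists_generator (α := Fˣ)
  set c := expT D v κ with hc
  set H : GL D.Idx F := tor D A c with hH
  set x : GL D.Idx F := xG h.good α 1 with hx
  set n := nW F h.good w with hn
  have hβ : β < D.nroots := hwr ▸ wf_lt h.good hw hr₀
  have hxm : x ∈ D.group F := xG_mem_group _ _ _
  refine exists_pair_of (a := x * H) (b := xG h.good β 1 * n)
    (mul_mem hxm (tor_mem_group h.good c))
    (mul_mem (xG_mem_group _ _ _) (nW_mem_group h.good hw)) ?_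
  set X := Subgroup.closure {x * H, xG h.good β 1 * n} with hX
  have ha : x * H ∈ X := Subgroup.subset_closure (Set.mem_insert _ _)
  have hb : xG h.good β 1 * n ∈ X := Subgroup.subset_closure (Set.mem_insert_of_mem _ rfl)
  have hcomm : Commute x H := by
    have e := tor_conj_xG h.good c hα (1 : F)
    rw [hc, chi_expT, hpα, _root_.zpow_zero, Units.val_one, one_mul, mul_inv_eq_iff_eq_mul] at e
    exact e.symm
  obtain ⟨p, hp⟩ := CharP.exists F
  obtain ⟨n', hp', hcard⟩ := FiniteField.card F p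
  have hxq : x ^ Fintype.card F = 1 := by
    rw [hx, xG_pow, FiniteField.cast_card_eq_zero, zero_mul, xG_zero]
  have hHq : H ^ (Fintype.card F - 1) = 1 := by
    rw [hH, ← map_pow]
    have : c ^ (Fintype.card F - 1) = 1 := funext fun i => by
      rw [Pi.pow_apply, Pi.one_apply, ← Fintype.card_units, pow_card_eq_one]
    rw [this, map_one]
  have hcop : (Fintype.card F).Coprime (Fintype.card F - 1) :=
    (Nat.coprime_self_sub_right (Fintype.card_pos)).2 (Nat.coprime_one_right _)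
  obtain ⟨hxX, hHX⟩ := mem_of_mul hcomm hxq hHq hcop ha
  obtain ⟨hfβ, hnX⟩ := extract h hw hHX hr₀ hwr hκ hpβ (chi_expT v κ β) (chi_expT v κ r₀)
    (pow_small_ne_one h4 hκ hpβ) (pow_small_ne_one h4 hκ hpr) hb
  have hα' : wf A w α < D.nroots := wf_lt h.good hw hα
  have hfα : Full h.good X (wf A w α) := by
    refine full_of_char h.good hα' hHX hκ hpα' (chi_expT v κ _) (e := (sgnW A w α : F) * 1) ?_
      (conj_word h.good hw hnX hα hxX)
    rcases sgnW_cases h.good hw hα with e | e <;> simp [e]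
  refine group_le h (two := false) (by simp) (ws := [w]) ?_ ?_ (known := [wf A w α, β]) ?_ ?_ hcl
  · intro u hu; rw [List.mem_singleton] at hu; exact hu ▸ hw
  · simpa using hnX
  · simpa using ⟨hα', hβ⟩
  · simpa using ⟨hfα, hfβ⟩

end CfsgLib.Chev.TwoGen
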