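/-
Closure certificates for two-element generation.
-/
import Cfsg.Agent.Lib.Chev.TwoGen.Torus

set_option autoImplicit false

namespace CfsgLib.Chev.TwoGen

/-- the closing steps for G2 -/
def certG2 : List (ℕ × ℕ × ℕ × ℕ) :=
  [(8, 0, 9, 0), (1, 0, 6, 0), (4, 0, 8, 0), (0, 0, 1, 0), (2, 0, 4, 0), (5, 0, 0, 0),
    (3, 0, 2, 0), (10, 0, 5, 0), (7, 0, 3, 0), (11, 0, 10, 0)]

/-- the closing steps for B2 -/
def certB2 : List (ℕ × ℕ × ℕ × ℕ) :=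
  [(3, 0, 0, 0), (6, 0, 5, 0), (7, 0, 3, 0), (2, 0, 6, 0), (4, 0, 7, 0), (1, 0, 2, 0)]

/-- the closing steps for D4 -/
def certD4 : List (ℕ × ℕ × ℕ × ℕ) :=
  [(7, 0, 3, 0), (13, 0, 15, 0), (11, 0, 7, 0), (2, 0, 13, 0), (20, 0, 11, 0), (8, 0, 2, 0),
    (16, 0, 20, 0), (10, 0, 8, 0), (12, 0, 16, 0), (21, 0, 10, 0), (5, 1, 3, 15), (9, 0, 5, 0),
    (1, 0, 9, 0), (18, 0, 1, 0), (14, 0, 18, 0), (22, 0, 14, 0), (0, 1, 3, 7), (6, 0, 0, 0),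
    (19, 0, 6, 0), (23, 0, 19, 0), (17, 0, 23, 0), (4, 0, 17, 0)]

/-- the closing steps for F4 -/
def certF4 : List (ℕ × ℕ × ℕ × ℕ) :=
  [(5, 0, 24, 0), (13, 0, 29, 0), (17, 0, 5, 0), (10, 0, 13, 0), (4, 0, 17, 0), (3, 0, 10, 0),
    (16, 0, 4, 0), (7, 0, 3, 0), (22, 0, 16, 0), (8, 0, 7, 0), (23, 0, 22, 0), (18, 0, 8, 0),
    (42, 0, 23, 0), (34, 0, 18, 0), (30, 0, 42, 0), (37, 0, 34, 0), (43, 0, 30, 0), (44, 0, 37, 0),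
    (31, 0, 43, 0), (40, 0, 44, 0), (25, 0, 31, 0), (39, 0, 40, 0), (6, 1, 24, 5), (2, 0, 6, 0),
    (1, 0, 2, 0), (0, 0, 1, 0), (15, 0, 0, 0), (21, 0, 15, 0), (41, 0, 21, 0), (45, 0, 41, 0),
    (46, 0, 45, 0), (47, 0, 46, 0), (32, 0, 47, 0), (26, 0, 32, 0), (12, 1, 29, 8), (9, 0, 12, 0),
    (19, 0, 9, 0), (11, 0, 19, 0), (33, 0, 11, 0), (27, 0, 33, 0), (35, 0, 27, 0), (38, 0, 35, 0),
    (28, 0, 38, 0), (36, 0, 28, 0), (14, 0, 36, 0), (20, 0, 14, 0)]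

/-- the closing steps for E6 -/
def certE6 : List (ℕ × ℕ × ℕ × ℕ) :=
  [(28, 0, 8, 0), (58, 0, 46, 0), (23, 0, 28, 0), (51, 0, 58, 0), (11, 0, 23, 0), (65, 0, 51, 0),
    (56, 0, 11, 0), (44, 0, 65, 0), (42, 0, 56, 0), (49, 0, 44, 0), (47, 0, 42, 0), (25, 0, 49, 0),
    (59, 0, 47, 0), (13, 0, 25, 0), (52, 0, 59, 0), (20, 0, 13, 0), (39, 0, 52, 0), (6, 0, 20, 0),
    (37, 0, 39, 0), (27, 0, 6, 0), (36, 0, 37, 0), (22, 0, 27, 0), (3, 1, 8, 28), (18, 0, 3, 0),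
    (5, 0, 18, 0), (26, 0, 5, 0), (57, 0, 26, 0), (50, 0, 57, 0), (64, 0, 50, 0), (69, 0, 64, 0),
    (54, 0, 69, 0), (40, 0, 54, 0), (38, 0, 40, 0), (9, 0, 38, 0), (19, 1, 8, 56), (32, 0, 19, 0),
    (34, 0, 32, 0), (35, 0, 34, 0), (63, 0, 35, 0), (43, 0, 63, 0), (48, 0, 43, 0), (60, 0, 48, 0),
    (15, 0, 60, 0), (29, 0, 15, 0), (24, 0, 29, 0), (12, 0, 24, 0), (14, 1, 8, 49), (21, 0, 14, 0),
    (7, 0, 21, 0), (2, 0, 7, 0), (17, 0, 2, 0), (31, 0, 17, 0), (33, 0, 31, 0), (62, 0, 33, 0),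
    (68, 0, 62, 0), (53, 0, 68, 0), (66, 0, 53, 0), (45, 0, 66, 0), (0, 1, 8, 18), (1, 0, 0, 0),
    (16, 0, 1, 0), (30, 0, 16, 0), (61, 0, 30, 0), (67, 0, 61, 0), (71, 0, 67, 0), (70, 0, 71, 0),
    (55, 0, 70, 0), (41, 0, 55, 0), (10, 0, 41, 0), (4, 0, 10, 0)]

/-- the closing steps for E7 -/
def certE7 : List (ℕ × ℕ × ℕ × ℕ) :=
  [(51, 0, 23, 0), (73, 0, 93, 0), (45, 0, 51, 0), (79, 0, 73, 0), (28, 0, 45, 0), (96, 0, 79, 0),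
    (39, 0, 28, 0), (85, 0, 96, 0), (56, 0, 39, 0), (105, 0, 85, 0), (59, 0, 56, 0), (75, 0, 105, 0),
    (61, 0, 59, 0), (81, 0, 75, 0), (62, 0, 61, 0), (98, 0, 81, 0), (102, 0, 62, 0), (32, 0, 98, 0),
    (74, 0, 102, 0), (52, 0, 32, 0), (80, 0, 74, 0), (46, 0, 52, 0), (97, 0, 80, 0), (29, 0, 46, 0),
    (86, 0, 97, 0), (40, 0, 29, 0), (69, 0, 86, 0), (20, 0, 40, 0), (66, 0, 69, 0), (50, 0, 20, 0),
    (64, 0, 66, 0), (44, 0, 50, 0), (63, 0, 64, 0), (27, 0, 44, 0), (14, 1, 23, 51), (38, 0, 14, 0),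
    (19, 0, 38, 0), (11, 0, 19, 0), (36, 0, 11, 0), (55, 0, 36, 0), (58, 0, 55, 0), (60, 0, 58, 0),
    (101, 0, 60, 0), (111, 0, 101, 0), (87, 0, 111, 0), (106, 0, 87, 0), (114, 0, 106, 0), (89, 0, 114, 0),
    (70, 0, 89, 0), (67, 0, 70, 0), (65, 0, 67, 0), (24, 0, 65, 0), (47, 1, 23, 98), (30, 0, 47, 0),
    (41, 0, 30, 0), (21, 0, 41, 0), (12, 0, 21, 0), (37, 0, 12, 0), (18, 0, 37, 0), (49, 0, 18, 0),
    (43, 0, 49, 0), (78, 0, 43, 0), (95, 0, 78, 0), (84, 0, 95, 0), (104, 0, 84, 0), (113, 0, 104, 0),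
    (88, 0, 113, 0), (107, 0, 88, 0), (76, 0, 107, 0), (82, 0, 76, 0), (5, 1, 23, 38), (10, 0, 5, 0),
    (3, 0, 10, 0), (8, 0, 3, 0), (34, 0, 8, 0), (54, 0, 34, 0), (57, 0, 54, 0), (100, 0, 57, 0),
    (110, 0, 100, 0), (120, 0, 110, 0), (115, 0, 120, 0), (122, 0, 115, 0), (117, 0, 122, 0), (91, 0, 117, 0),
    (71, 0, 91, 0), (68, 0, 71, 0), (25, 0, 68, 0), (15, 0, 25, 0), (4, 1, 23, 37), (9, 0, 4, 0),
    (35, 0, 9, 0), (17, 0, 35, 0), (48, 0, 17, 0), (94, 0, 48, 0), (83, 0, 94, 0), (103, 0, 83, 0),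
    (112, 0, 103, 0), (121, 0, 112, 0), (116, 0, 121, 0), (90, 0, 116, 0), (108, 0, 90, 0), (77, 0, 108, 0),
    (31, 0, 77, 0), (42, 0, 31, 0), (22, 0, 42, 0), (13, 0, 22, 0), (0, 1, 23, 10), (1, 0, 0, 0),
    (2, 0, 1, 0), (7, 0, 2, 0), (33, 0, 7, 0), (53, 0, 33, 0), (99, 0, 53, 0), (109, 0, 99, 0),
    (119, 0, 109, 0), (125, 0, 119, 0), (124, 0, 125, 0), (123, 0, 124, 0), (118, 0, 123, 0), (92, 0, 118, 0),
    (72, 0, 92, 0), (26, 0, 72, 0), (16, 0, 26, 0), (6, 0, 16, 0)]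

/-- the closing steps for E8 -/
def certE8 : List (ℕ × ℕ × ℕ × ℕ) :=
  [(66, 0, 120, 0), (70, 0, 134, 0), (103, 0, 66, 0), (55, 0, 70, 0), (96, 0, 103, 0), (35, 0, 55, 0),
    (73, 0, 96, 0), (13, 0, 35, 0), (89, 0, 73, 0), (5, 0, 13, 0), (62, 0, 89, 0), (4, 0, 5, 0),
    (102, 0, 62, 0), (3, 0, 4, 0), (95, 0, 102, 0), (2, 0, 3, 0), (72, 0, 95, 0), (1, 0, 2, 0),
    (88, 0, 72, 0), (0, 0, 1, 0), (109, 0, 88, 0), (15, 0, 0, 0), (113, 0, 109, 0), (21, 0, 15, 0),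
    (116, 0, 113, 0), (36, 0, 21, 0), (118, 0, 116, 0), (78, 0, 36, 0), (119, 0, 118, 0), (105, 0, 78, 0),
    (173, 0, 119, 0), (169, 0, 105, 0), (136, 0, 173, 0), (184, 0, 169, 0), (143, 0, 136, 0), (204, 0, 184, 0),
    (166, 0, 143, 0), (226, 0, 204, 0), (150, 0, 166, 0), (234, 0, 226, 0), (177, 0, 150, 0), (235, 0, 234, 0),
    (137, 0, 177, 0), (236, 0, 235, 0), (144, 0, 137, 0), (237, 0, 236, 0), (167, 0, 144, 0), (238, 0, 237, 0),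
    (151, 0, 167, 0), (239, 0, 238, 0), (130, 0, 151, 0), (224, 0, 239, 0), (126, 0, 130, 0), (218, 0, 224, 0),
    (123, 0, 126, 0), (203, 0, 218, 0), (121, 0, 123, 0), (161, 0, 203, 0), (67, 1, 120, 66), (52, 0, 67, 0),
    (87, 0, 52, 0), (61, 0, 87, 0), (48, 0, 61, 0), (30, 0, 48, 0), (43, 0, 30, 0), (83, 0, 43, 0),
    (58, 0, 83, 0), (46, 0, 58, 0), (84, 0, 46, 0), (108, 0, 84, 0), (112, 0, 108, 0), (115, 0, 112, 0),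
    (117, 0, 115, 0), (172, 0, 117, 0), (187, 0, 172, 0), (152, 0, 187, 0), (178, 0, 152, 0), (191, 0, 178, 0),
    (209, 0, 191, 0), (196, 0, 209, 0), (156, 0, 196, 0), (181, 0, 156, 0), (193, 0, 181, 0), (155, 0, 193, 0),
    (131, 0, 155, 0), (127, 0, 131, 0), (124, 0, 127, 0), (122, 0, 124, 0), (63, 1, 120, 62), (49, 0, 63, 0),
    (86, 0, 49, 0), (60, 0, 86, 0), (47, 0, 60, 0), (85, 0, 47, 0), (59, 0, 85, 0), (101, 0, 59, 0),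
    (94, 0, 101, 0), (71, 0, 94, 0), (162, 0, 71, 0), (135, 0, 162, 0), (142, 0, 135, 0), (165, 0, 142, 0),
    (149, 0, 165, 0), (176, 0, 149, 0), (190, 0, 176, 0), (153, 0, 190, 0), (179, 0, 153, 0), (192, 0, 179, 0),
    (154, 0, 192, 0), (180, 0, 154, 0), (138, 0, 180, 0), (145, 0, 138, 0), (168, 0, 145, 0), (77, 0, 168, 0),
    (104, 0, 77, 0), (97, 0, 104, 0), (74, 0, 97, 0), (90, 0, 74, 0), (106, 1, 120, 105), (110, 0, 106, 0),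
    (170, 0, 110, 0), (185, 0, 170, 0), (205, 0, 185, 0), (227, 0, 205, 0), (219, 0, 227, 0), (233, 0, 219, 0),
    (232, 0, 233, 0), (225, 0, 232, 0), (231, 0, 225, 0), (223, 0, 231, 0), (217, 0, 223, 0), (202, 0, 217, 0),
    (160, 0, 202, 0), (133, 0, 160, 0), (129, 0, 133, 0), (69, 0, 129, 0), (54, 0, 69, 0), (34, 0, 54, 0),
    (12, 0, 34, 0), (20, 0, 12, 0), (6, 0, 20, 0), (7, 0, 6, 0), (14, 0, 7, 0), (8, 0, 14, 0),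
    (16, 0, 8, 0), (22, 0, 16, 0), (37, 0, 22, 0), (79, 0, 37, 0), (53, 1, 120, 52), (33, 0, 53, 0),
    (45, 0, 33, 0), (29, 0, 45, 0), (10, 0, 29, 0), (18, 0, 10, 0), (24, 0, 18, 0), (39, 0, 24, 0),
    (26, 0, 39, 0), (40, 0, 26, 0), (81, 0, 40, 0), (107, 0, 81, 0), (111, 0, 107, 0), (114, 0, 111, 0),
    (171, 0, 114, 0), (186, 0, 171, 0), (206, 0, 186, 0), (194, 0, 206, 0), (210, 0, 194, 0), (229, 0, 210, 0),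
    (221, 0, 229, 0), (215, 0, 221, 0), (200, 0, 215, 0), (213, 0, 200, 0), (199, 0, 213, 0), (158, 0, 199, 0),
    (132, 0, 158, 0), (128, 0, 132, 0), (125, 0, 128, 0), (68, 0, 125, 0), (44, 1, 120, 43), (28, 0, 44, 0),
    (42, 0, 28, 0), (27, 0, 42, 0), (41, 0, 27, 0), (82, 0, 41, 0), (57, 0, 82, 0), (100, 0, 57, 0),
    (93, 0, 100, 0), (141, 0, 93, 0), (164, 0, 141, 0), (148, 0, 164, 0), (175, 0, 148, 0), (189, 0, 175, 0),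
    (208, 0, 189, 0), (195, 0, 208, 0), (211, 0, 195, 0), (197, 0, 211, 0), (212, 0, 197, 0), (198, 0, 212, 0),
    (157, 0, 198, 0), (182, 0, 157, 0), (139, 0, 182, 0), (146, 0, 139, 0), (98, 0, 146, 0), (75, 0, 98, 0),
    (91, 0, 75, 0), (64, 0, 91, 0), (50, 0, 64, 0), (31, 0, 50, 0), (220, 1, 120, 219), (214, 0, 220, 0),
    (230, 0, 214, 0), (222, 0, 230, 0), (216, 0, 222, 0), (201, 0, 216, 0), (159, 0, 201, 0), (183, 0, 159, 0),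
    (140, 0, 183, 0), (76, 0, 140, 0), (92, 0, 76, 0), (65, 0, 92, 0), (51, 0, 65, 0), (32, 0, 51, 0),
    (11, 0, 32, 0), (19, 0, 11, 0), (25, 0, 19, 0), (9, 0, 25, 0), (17, 0, 9, 0), (23, 0, 17, 0),
    (38, 0, 23, 0), (80, 0, 38, 0), (56, 0, 80, 0), (99, 0, 56, 0), (163, 0, 99, 0), (147, 0, 163, 0),
    (174, 0, 147, 0), (188, 0, 174, 0), (207, 0, 188, 0), (228, 0, 207, 0)]

/-- the closing steps for E6s -/
def certE6s : List (ℕ × ℕ × ℕ × ℕ) :=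
  [(8, 0, 36, 0), (28, 0, 8, 0), (23, 0, 28, 0), (11, 0, 23, 0), (56, 0, 11, 0), (42, 0, 56, 0),
    (47, 0, 42, 0), (59, 0, 47, 0), (52, 0, 59, 0), (39, 0, 52, 0), (37, 0, 39, 0), (9, 1, 36, 8),
    (3, 0, 9, 0), (18, 0, 3, 0), (5, 0, 18, 0), (26, 0, 5, 0), (57, 0, 26, 0), (50, 0, 57, 0),
    (64, 0, 50, 0), (69, 0, 64, 0), (54, 0, 69, 0), (40, 0, 54, 0), (38, 0, 40, 0), (12, 1, 36, 11),
    (19, 0, 12, 0), (32, 0, 19, 0), (34, 0, 32, 0), (35, 0, 34, 0), (63, 0, 35, 0), (43, 0, 63, 0),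
    (48, 0, 43, 0), (60, 0, 48, 0), (15, 0, 60, 0), (29, 0, 15, 0), (24, 0, 29, 0), (4, 1, 36, 3),
    (0, 0, 4, 0), (1, 0, 0, 0), (16, 0, 1, 0), (30, 0, 16, 0), (61, 0, 30, 0), (67, 0, 61, 0),
    (71, 0, 67, 0), (70, 0, 71, 0), (55, 0, 70, 0), (41, 0, 55, 0), (10, 0, 41, 0), (27, 1, 36, 26),
    (22, 0, 27, 0), (46, 0, 22, 0), (58, 0, 46, 0), (51, 0, 58, 0), (65, 0, 51, 0), (44, 0, 65, 0),
    (49, 0, 44, 0), (25, 0, 49, 0), (13, 0, 25, 0), (20, 0, 13, 0), (6, 0, 20, 0), (31, 1, 36, 30),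
    (33, 0, 31, 0), (62, 0, 33, 0), (68, 0, 62, 0), (53, 0, 68, 0), (66, 0, 53, 0), (45, 0, 66, 0),
    (14, 0, 45, 0), (21, 0, 14, 0), (7, 0, 21, 0), (2, 0, 7, 0), (17, 0, 2, 0)]

/-- the closing steps for E7s -/
def certE7s : List (ℕ × ℕ × ℕ × ℕ) :=
  [(23, 0, 63, 0), (51, 0, 23, 0), (45, 0, 51, 0), (28, 0, 45, 0), (39, 0, 28, 0), (56, 0, 39, 0),
    (59, 0, 56, 0), (61, 0, 59, 0), (62, 0, 61, 0), (102, 0, 62, 0), (74, 0, 102, 0), (80, 0, 74, 0),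
    (97, 0, 80, 0), (86, 0, 97, 0), (69, 0, 86, 0), (66, 0, 69, 0), (64, 0, 66, 0), (24, 1, 63, 23),
    (14, 0, 24, 0), (38, 0, 14, 0), (19, 0, 38, 0), (11, 0, 19, 0), (36, 0, 11, 0), (55, 0, 36, 0),
    (58, 0, 55, 0), (60, 0, 58, 0), (101, 0, 60, 0), (111, 0, 101, 0), (87, 0, 111, 0), (106, 0, 87, 0),
    (114, 0, 106, 0), (89, 0, 114, 0), (70, 0, 89, 0), (67, 0, 70, 0), (65, 0, 67, 0), (40, 1, 63, 39),
    (20, 0, 40, 0), (50, 0, 20, 0), (44, 0, 50, 0), (27, 0, 44, 0), (93, 0, 27, 0), (73, 0, 93, 0),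
    (79, 0, 73, 0), (96, 0, 79, 0), (85, 0, 96, 0), (105, 0, 85, 0), (75, 0, 105, 0), (81, 0, 75, 0),
    (98, 0, 81, 0), (32, 0, 98, 0), (52, 0, 32, 0), (46, 0, 52, 0), (29, 0, 46, 0), (15, 1, 63, 14),
    (5, 0, 15, 0), (10, 0, 5, 0), (3, 0, 10, 0), (8, 0, 3, 0), (34, 0, 8, 0), (54, 0, 34, 0),
    (57, 0, 54, 0), (100, 0, 57, 0), (110, 0, 100, 0), (120, 0, 110, 0), (115, 0, 120, 0), (122, 0, 115, 0),
    (117, 0, 122, 0), (91, 0, 117, 0), (71, 0, 91, 0), (68, 0, 71, 0), (25, 0, 68, 0), (37, 1, 63, 36),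
    (18, 0, 37, 0), (49, 0, 18, 0), (43, 0, 49, 0), (78, 0, 43, 0), (95, 0, 78, 0), (84, 0, 95, 0),
    (104, 0, 84, 0), (113, 0, 104, 0), (88, 0, 113, 0), (107, 0, 88, 0), (76, 0, 107, 0), (82, 0, 76, 0),
    (47, 0, 82, 0), (30, 0, 47, 0), (41, 0, 30, 0), (21, 0, 41, 0), (12, 0, 21, 0), (6, 1, 63, 5),
    (0, 0, 6, 0), (1, 0, 0, 0), (2, 0, 1, 0), (7, 0, 2, 0), (33, 0, 7, 0), (53, 0, 33, 0),
    (99, 0, 53, 0), (109, 0, 99, 0), (119, 0, 109, 0), (125, 0, 119, 0), (124, 0, 125, 0), (123, 0, 124, 0),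
    (118, 0, 123, 0), (92, 0, 118, 0), (72, 0, 92, 0), (26, 0, 72, 0), (16, 0, 26, 0), (35, 1, 63, 34),
    (17, 0, 35, 0), (48, 0, 17, 0), (94, 0, 48, 0), (83, 0, 94, 0), (103, 0, 83, 0), (112, 0, 103, 0),
    (121, 0, 112, 0), (116, 0, 121, 0), (90, 0, 116, 0), (108, 0, 90, 0), (77, 0, 108, 0), (31, 0, 77, 0),
    (42, 0, 31, 0), (22, 0, 42, 0), (13, 0, 22, 0), (4, 0, 13, 0), (9, 0, 4, 0)]

/-- the closing steps for E8s -/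
def certE8s : List (ℕ × ℕ × ℕ × ℕ) :=
  [(66, 0, 120, 0), (103, 0, 66, 0), (96, 0, 103, 0), (73, 0, 96, 0), (89, 0, 73, 0), (62, 0, 89, 0),
    (102, 0, 62, 0), (95, 0, 102, 0), (72, 0, 95, 0), (88, 0, 72, 0), (109, 0, 88, 0), (113, 0, 109, 0),
    (116, 0, 113, 0), (118, 0, 116, 0), (119, 0, 118, 0), (173, 0, 119, 0), (136, 0, 173, 0), (143, 0, 136, 0),
    (166, 0, 143, 0), (150, 0, 166, 0), (177, 0, 150, 0), (137, 0, 177, 0), (144, 0, 137, 0), (167, 0, 144, 0),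
    (151, 0, 167, 0), (130, 0, 151, 0), (126, 0, 130, 0), (123, 0, 126, 0), (121, 0, 123, 0), (67, 1, 120, 66),
    (52, 0, 67, 0), (87, 0, 52, 0), (61, 0, 87, 0), (48, 0, 61, 0), (30, 0, 48, 0), (43, 0, 30, 0),
    (83, 0, 43, 0), (58, 0, 83, 0), (46, 0, 58, 0), (84, 0, 46, 0), (108, 0, 84, 0), (112, 0, 108, 0),
    (115, 0, 112, 0), (117, 0, 115, 0), (172, 0, 117, 0), (187, 0, 172, 0), (152, 0, 187, 0), (178, 0, 152, 0),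
    (191, 0, 178, 0), (209, 0, 191, 0), (196, 0, 209, 0), (156, 0, 196, 0), (181, 0, 156, 0), (193, 0, 181, 0),
    (155, 0, 193, 0), (131, 0, 155, 0), (127, 0, 131, 0), (124, 0, 127, 0), (122, 0, 124, 0), (63, 1, 120, 62),
    (49, 0, 63, 0), (86, 0, 49, 0), (60, 0, 86, 0), (47, 0, 60, 0), (85, 0, 47, 0), (59, 0, 85, 0),
    (101, 0, 59, 0), (94, 0, 101, 0), (71, 0, 94, 0), (162, 0, 71, 0), (135, 0, 162, 0), (142, 0, 135, 0),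
    (165, 0, 142, 0), (149, 0, 165, 0), (176, 0, 149, 0), (190, 0, 176, 0), (153, 0, 190, 0), (179, 0, 153, 0),
    (192, 0, 179, 0), (154, 0, 192, 0), (180, 0, 154, 0), (138, 0, 180, 0), (145, 0, 138, 0), (168, 0, 145, 0),
    (77, 0, 168, 0), (104, 0, 77, 0), (97, 0, 104, 0), (74, 0, 97, 0), (90, 0, 74, 0), (53, 1, 120, 52),
    (33, 0, 53, 0), (45, 0, 33, 0), (29, 0, 45, 0), (10, 0, 29, 0), (18, 0, 10, 0), (24, 0, 18, 0),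
    (39, 0, 24, 0), (26, 0, 39, 0), (40, 0, 26, 0), (81, 0, 40, 0), (107, 0, 81, 0), (111, 0, 107, 0),
    (114, 0, 111, 0), (171, 0, 114, 0), (186, 0, 171, 0), (206, 0, 186, 0), (194, 0, 206, 0), (210, 0, 194, 0),
    (229, 0, 210, 0), (221, 0, 229, 0), (215, 0, 221, 0), (200, 0, 215, 0), (213, 0, 200, 0), (199, 0, 213, 0),
    (158, 0, 199, 0), (132, 0, 158, 0), (128, 0, 132, 0), (125, 0, 128, 0), (68, 0, 125, 0), (44, 1, 120, 43),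
    (28, 0, 44, 0), (42, 0, 28, 0), (27, 0, 42, 0), (41, 0, 27, 0), (82, 0, 41, 0), (57, 0, 82, 0),
    (100, 0, 57, 0), (93, 0, 100, 0), (141, 0, 93, 0), (164, 0, 141, 0), (148, 0, 164, 0), (175, 0, 148, 0),
    (189, 0, 175, 0), (208, 0, 189, 0), (195, 0, 208, 0), (211, 0, 195, 0), (197, 0, 211, 0), (212, 0, 197, 0),
    (198, 0, 212, 0), (157, 0, 198, 0), (182, 0, 157, 0), (139, 0, 182, 0), (146, 0, 139, 0), (98, 0, 146, 0),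
    (75, 0, 98, 0), (91, 0, 75, 0), (64, 0, 91, 0), (50, 0, 64, 0), (31, 0, 50, 0), (34, 1, 120, 33),
    (12, 0, 34, 0), (20, 0, 12, 0), (6, 0, 20, 0), (7, 0, 6, 0), (14, 0, 7, 0), (8, 0, 14, 0),
    (16, 0, 8, 0), (22, 0, 16, 0), (37, 0, 22, 0), (79, 0, 37, 0), (106, 0, 79, 0), (110, 0, 106, 0),
    (170, 0, 110, 0), (185, 0, 170, 0), (205, 0, 185, 0), (227, 0, 205, 0), (219, 0, 227, 0), (233, 0, 219, 0),
    (232, 0, 233, 0), (225, 0, 232, 0), (231, 0, 225, 0), (223, 0, 231, 0), (217, 0, 223, 0), (202, 0, 217, 0),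
    (160, 0, 202, 0), (133, 0, 160, 0), (129, 0, 133, 0), (69, 0, 129, 0), (54, 0, 69, 0), (25, 1, 120, 24),
    (9, 0, 25, 0), (17, 0, 9, 0), (23, 0, 17, 0), (38, 0, 23, 0), (80, 0, 38, 0), (56, 0, 80, 0),
    (99, 0, 56, 0), (163, 0, 99, 0), (147, 0, 163, 0), (174, 0, 147, 0), (188, 0, 174, 0), (207, 0, 188, 0),
    (228, 0, 207, 0), (220, 0, 228, 0), (214, 0, 220, 0), (230, 0, 214, 0), (222, 0, 230, 0), (216, 0, 222, 0),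
    (201, 0, 216, 0), (159, 0, 201, 0), (183, 0, 159, 0), (140, 0, 183, 0), (76, 0, 140, 0), (92, 0, 76, 0),
    (65, 0, 92, 0), (51, 0, 65, 0), (32, 0, 51, 0), (11, 0, 32, 0), (19, 0, 11, 0), (13, 1, 120, 12),
    (5, 0, 13, 0), (4, 0, 5, 0), (3, 0, 4, 0), (2, 0, 3, 0), (1, 0, 2, 0), (0, 0, 1, 0),
    (15, 0, 0, 0), (21, 0, 15, 0), (36, 0, 21, 0), (78, 0, 36, 0), (105, 0, 78, 0), (169, 0, 105, 0),
    (184, 0, 169, 0), (204, 0, 184, 0), (226, 0, 204, 0), (234, 0, 226, 0), (235, 0, 234, 0), (236, 0, 235, 0),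
    (237, 0, 236, 0), (238, 0, 237, 0), (239, 0, 238, 0), (224, 0, 239, 0), (218, 0, 224, 0), (203, 0, 218, 0),
    (161, 0, 203, 0), (134, 0, 161, 0), (70, 0, 134, 0), (55, 0, 70, 0), (35, 0, 55, 0)]

/-- the closing steps for B2s -/
def certB2s : List (ℕ × ℕ × ℕ × ℕ) :=
  [(6, 0, 5, 0), (2, 0, 6, 0), (1, 0, 2, 0), (7, 1, 5, 6), (4, 0, 7, 0), (0, 0, 4, 0),
    (3, 0, 0, 0)]

/-- the closing steps for F4s3 -/
def certF4s3 : List (ℕ × ℕ × ℕ × ℕ) :=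
  [(35, 0, 27, 0), (38, 0, 35, 0), (28, 0, 38, 0), (36, 0, 28, 0), (14, 0, 36, 0), (20, 0, 14, 0),
    (12, 0, 20, 0), (9, 0, 12, 0), (19, 0, 9, 0), (11, 0, 19, 0), (33, 0, 11, 0), (37, 1, 27, 35),
    (44, 0, 37, 0), (40, 0, 44, 0), (39, 0, 40, 0), (29, 0, 39, 0), (13, 0, 29, 0), (10, 0, 13, 0),
    (3, 0, 10, 0), (7, 0, 3, 0), (8, 0, 7, 0), (18, 0, 8, 0), (34, 0, 18, 0), (30, 1, 27, 28),
    (43, 0, 30, 0), (31, 0, 43, 0), (25, 0, 31, 0), (24, 0, 25, 0), (5, 0, 24, 0), (17, 0, 5, 0),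
    (4, 0, 17, 0), (16, 0, 4, 0), (22, 0, 16, 0), (23, 0, 22, 0), (42, 0, 23, 0), (45, 1, 27, 44),
    (46, 0, 45, 0), (47, 0, 46, 0), (32, 0, 47, 0), (26, 0, 32, 0), (6, 0, 26, 0), (2, 0, 6, 0),
    (1, 0, 2, 0), (0, 0, 1, 0), (15, 0, 0, 0), (21, 0, 15, 0), (41, 0, 21, 0)]

/-- the closing steps for F4s2 -/
def certF4s2 : List (ℕ × ℕ × ℕ × ℕ) :=
  [(33, 0, 27, 0), (46, 1, 47, 0), (9, 1, 33, 0), (13, 0, 33, 0), (11, 0, 9, 0), (32, 1, 46, 0),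
    (10, 1, 9, 0), (36, 1, 13, 0), (12, 1, 11, 0), (18, 0, 11, 0), (45, 0, 32, 0), (29, 0, 36, 0),
    (19, 0, 12, 0), (35, 1, 36, 0), (34, 1, 12, 0), (3, 1, 18, 0), (30, 1, 45, 0), (44, 1, 29, 0),
    (43, 0, 45, 0), (38, 0, 29, 0), (28, 0, 35, 0), (20, 0, 34, 0), (8, 0, 3, 0), (41, 0, 30, 0),
    (39, 0, 44, 0), (31, 1, 30, 0), (25, 1, 43, 0), (37, 1, 38, 0), (5, 1, 41, 0), (14, 0, 20, 0),
    (7, 0, 8, 0), (40, 0, 39, 0), (42, 0, 31, 0), (21, 0, 5, 0), (26, 1, 25, 0), (24, 1, 5, 0),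
    (23, 1, 42, 0), (4, 1, 21, 0), (16, 0, 21, 0), (15, 0, 4, 0), (6, 1, 23, 0), (22, 1, 4, 0),
    (2, 1, 16, 0), (0, 1, 15, 0), (17, 0, 22, 0), (1, 1, 0, 0)]

/-- the closing steps for G2s -/
def certG2s : List (ℕ × ℕ × ℕ × ℕ) :=
  [(9, 0, 8, 0), (6, 1, 11, 0), (4, 1, 9, 0), (10, 0, 6, 0), (7, 0, 4, 0), (1, 1, 10, 0),
    (2, 1, 7, 0), (5, 0, 1, 0), (3, 0, 2, 0), (0, 1, 5, 0)]

/-- the closing steps for D4s3 -/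
def certD4s3 : List (ℕ × ℕ × ℕ × ℕ) :=
  [(9, 0, 13, 0), (15, 1, 19, 0), (3, 1, 9, 0), (0, 0, 3, 0), (21, 2, 19, 13), (18, 0, 21, 0),
    (17, 1, 21, 0), (5, 1, 18, 0), (12, 0, 17, 0), (2, 0, 5, 0), (11, 1, 12, 0), (6, 1, 2, 0),
    (23, 2, 19, 17), (20, 0, 23, 0), (14, 1, 20, 0), (10, 0, 14, 0), (4, 2, 13, 2), (8, 1, 4, 0),
    (22, 2, 13, 20), (16, 1, 22, 0), (7, 0, 16, 0), (1, 1, 7, 0)]

/-- the closing steps for D4s2 -/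
def certD4s2 : List (ℕ × ℕ × ℕ × ℕ) :=
  [(3, 0, 12, 0), (18, 0, 1, 0), (7, 0, 3, 0), (14, 0, 18, 0), (11, 0, 7, 0), (22, 0, 14, 0),
    (20, 0, 11, 0), (5, 0, 22, 0), (16, 0, 20, 0), (9, 0, 5, 0), (2, 1, 12, 1), (8, 0, 2, 0),
    (10, 0, 8, 0), (21, 0, 10, 0), (15, 0, 21, 0), (13, 0, 15, 0), (4, 1, 12, 3), (0, 0, 4, 0),
    (6, 0, 0, 0), (19, 0, 6, 0), (23, 0, 19, 0), (17, 0, 23, 0)]

end CfsgLib.Chev.TwoGen
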