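/-
Two-element generation of the seven tabulated types.
-/
import Cfsg.Agent.Lib.Chev.TwoGen.Certs
import Cfsg.Agent.Lib.Chev.Twist.WordEq

set_option autoImplicit false
set_option maxRecDepth 100000

namespace CfsgLib.Chev.TwoGen

open Cfsg.Lie Matrix

variable {D : ChevalleyDatum} {A : Aux} {F : Type*} [Field F]

theorem bigG2 : bigCheck chevG2 auxG2 [-1, -2] 7 6 11 [0, 1] certG2 = true := by decide +kernel
theorem bigB2 : bigCheck chevB2 auxB2 [-1, -1] 4 5 1 [0, 1] certB2 = true := by decide +kernel
theorem bigD4 : bigCheck chevD4 auxD4 [-1, -2, -1, -1] 12 15 21 [0, 1, 2, 3] certD4 = true := by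
  decide +kernel
theorem bigF4 : bigCheck chevF4 auxF4 [-1, -2, -3, -2] 25 29 39 [0, 1, 2, 3] certF4 = true := by
  decide +kernel
theorem bigE6 : bigCheck chevE6 auxE6 [-1, -2, -2, -3, -2, -1] 36 46 22 [0, 1, 2, 3, 4, 5] certE6 =
    true := by decide +kernel
theorem bigE7 : bigCheck chevE7 auxE7 [-2, -2, -3, -4, -3, -2, -1] 63 93 27 [0, 1, 2, 3, 4, 5, 6]
    certE7 = true := by decide +kernel
theorem bigE8 : bigCheck chevE8 auxE8 [-2, -3, -4, -6, -5, -4, -3, -2] 121 134 161
    [0, 1, 2, 3, 4, 5, 6, 7] certE8 = true := by decide +kernel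

lemma small_elems [Fintype F] (hq : Fintype.card F ≤ 3) (t : F) : t = 0 ∨ t = 1 ∨ t = -1 := by
  classical
  rcases eq_or_ne t 0 with h | h
  · exact Or.inl h
  refine Or.inr ?_
  have h2 : (Units.mk0 t h) ^ 2 = 1 := by
    have hc : Fintype.card Fˣ ∣ 2 := by
      rw [Fintype.card_units]
      have := Fintype.one_lt_card (α := F)
      interval_cases hcd : Fintype.card F <;> simp
    obtain ⟨k, hk⟩ := hc
    rw [hk, pow_mul, pow_card_eq_one, one_pow]
  have := congrArg Units.val h2
  rw [Units.val_pow_eq_pow_val, Units.val_one, Units.val_mk0] at this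
  exact sq_eq_one_iff.1 this

variable (D A) in
/-- the certificate for one root element and one monomial element -/
noncomputable def smallCheck (two : Bool) (α : ℕ) (w : List ℕ) (l : List (ℕ × ℕ × ℕ × ℕ)) : Bool :=
  decide (α < D.nroots ∧ ∀ i ∈ w, i < D.rank) && closeCheck D A two [w] l [α]

theorem two_gen_small [Fintype F] (h : Std D A) {two : Bool} {α : ℕ} {w : List ℕ}
    {l : List (ℕ × ℕ × ℕ × ℕ)} (hchk : smallCheck D A two α w l = true)
    (h2 : two = true → (2 : F) ≠ 0) (hq : Fintype.card F ≤ 3) :
    ∃ a b : ↥(D.group F), Subgroup.closure ({a, b} : Set ↥(D.group F)) = ⊤ := by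
  simp only [smallCheck, Bool.and_eq_true, decide_eq_true_eq] at hchk
  obtain ⟨⟨hα, hw⟩, hcl⟩ := hchk
  refine exists_pair_of (a := xG h.good α (1 : F)) (b := nW F h.good w)
    (xG_mem_group _ _ _) (nW_mem_group h.good hw) ?_
  set X := Subgroup.closure {xG h.good α (1 : F), nW F h.good w}
  have hxX : xG h.good α (1 : F) ∈ X := Subgroup.subset_closure (Set.mem_insert _ _)
  have hnX : nW F h.good w ∈ X := Subgroup.subset_closure (Set.mem_insert_of_mem _ rfl)
  refine group_le h h2 (ws := [w]) (fun u hu => ?_) (by simpa using hnX) (known := [α])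
    (by simpa using hα) ?_ hcl
  · rw [List.mem_singleton] at hu; exact hu ▸ hw
  · simpa using full_of_one h.good (small_elems hq) one_ne_zero hxX

lemma nW_pow (g : Good D A) (w : List ℕ) : ∀ k : ℕ,
    nW F g w ^ k = nW F g (List.replicate k w).flatten
  | 0 => by simp [nW]
  | k + 1 => by
    rw [pow_succ', nW_pow g w k, List.replicate_succ, List.flatten_cons]
    simp [nW, List.map_append, List.prod_append]

variable (D A) in
/-- `x_α` is centralised by the word `u`, whose monomial element has order dividing `m` -/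
noncomputable def orderCheck (α : ℕ) (u : List ℕ) (m : ℕ) : Bool :=
  decide (α < D.nroots ∧ (∀ i ∈ u, i < D.rank) ∧ wf A u α = α) &&
  (List.range D.nroots).all fun r =>
    decide (wf A (List.replicate m u).flatten r = r)

variable (D A) in
/-- the signs are trivial -/
noncomputable def signCheck (α : ℕ) (u : List ℕ) (m : ℕ) : Bool :=
  decide (sgnW A u α = 1) &&
  (List.range D.nroots).all fun r => decide (sgnW A (List.replicate m u).flatten r = 1)

lemma sgn_nil (r : ℕ) : sgnW A [] r = 1 := rfl

lemma split_odd (h : Std D A) {α : ℕ} {u : List ℕ} {m : ℕ} (ho : orderCheck D A α u m = true)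
    (hs : signCheck D A α u m = true) :
    Commute (xG h.good α (1 : F)) (nW F h.good u) ∧ nW F h.good u ^ m = 1 := by
  simp only [orderCheck, signCheck, Bool.and_eq_true, decide_eq_true_eq, List.all_eq_true,
    List.mem_range] at ho hs
  obtain ⟨⟨hα, hu, hwα⟩, hw⟩ := ho
  obtain ⟨hsα, hsg⟩ := hs
  refine ⟨?_, ?_⟩
  · have e := nW_conj_xG (F := F) h.good hu hα 1
    rw [hwα, hsα, Int.cast_one, one_mul, mul_inv_eq_iff_eq_mul] at e
    exact e.symm
  · rw [nW_pow, nW_eq_of_sgn h (w' := []) ?_ (by simp [Letters]) fun r hr => ⟨?_, ?_⟩]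
    · simp [nW]
    · intro i hi
      obtain ⟨l, hl, hil⟩ := List.mem_flatten.1 hi
      rw [(List.mem_replicate.1 hl).2] at hil
      exact hu i hil
    · exact hw r hr
    · rw [hsg r hr, sgn_nil]

lemma split_two [Fintype F] (h : Std D A) (hq : Fintype.card F = 2) {α : ℕ} {u : List ℕ} {m : ℕ}
    (ho : orderCheck D A α u m = true) :
    Commute (xG h.good α (1 : F)) (nW F h.good u) ∧ nW F h.good u ^ m = 1 := by
  simp only [orderCheck, Bool.and_eq_true, decide_eq_true_eq, List.all_eq_true, List.mem_range] at ho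
  obtain ⟨⟨hα, hu, hwα⟩, hw⟩ := ho
  haveI : CharP F 2 := charP_of_card_eq_prime_pow (f := 1) (by rw [hq, pow_one])
  have hlet : Letters D (List.replicate m u).flatten := by
    intro i hi
    obtain ⟨l, hl, hil⟩ := List.mem_flatten.1 hi
    rw [(List.mem_replicate.1 hl).2] at hil
    exact hu i hil
  refine ⟨?_, ?_⟩
  · have e := nW_conj_xG (F := F) h.good hu hα 1
    have hs : (sgnW A u α : F) = 1 := by
      rcases sgnW_cases h.good hu hα with e | e <;> simp [e, CharTwo.neg_eq]
    rw [hwα, hs, one_mul, mul_inv_eq_iff_eq_mul] at e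
    exact e.symm
  · rw [nW_pow]
    have hd := mem_diag_of_id h (nW_mem (F := F) h.good hlet) (nW_acts h.good hlet) hw
    rw [diagonalSubgroup_eq h.good] at hd
    obtain ⟨c, hc⟩ := hd
    classical
    have : Subsingleton Fˣ := Fintype.card_le_one_iff_subsingleton.1
      (by rw [Fintype.card_units, hq])
    rw [← hc, Subsingleton.elim c 1, map_one]

/-- two root elements times centralising monomial elements -/
theorem two_gen_pair [Fintype F] (h : Std D A) {two : Bool} (h2 : two = true → (2 : F) ≠ 0)
    (hq : Fintype.card F ≤ 3) {p m : ℕ} (hp : (p : F) = 0) (hpm : p.Coprime m) {α β : ℕ}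
    {u v : List ℕ} {l : List (ℕ × ℕ × ℕ × ℕ)} (hu : orderCheck D A α u m = true)
    (hv : orderCheck D A β v m = true)
    (ha : Commute (xG h.good α (1 : F)) (nW F h.good u) ∧ nW F h.good u ^ m = 1)
    (hb : Commute (xG h.good β (1 : F)) (nW F h.good v) ∧ nW F h.good v ^ m = 1)
    (hcl : closeCheck D A two [u, v] l [α, β] = true) :
    ∃ a b : ↥(D.group F), Subgroup.closure ({a, b} : Set ↥(D.group F)) = ⊤ := by
  simp only [orderCheck, Bool.and_eq_true, decide_eq_true_eq] at hu hv
  obtain ⟨⟨hα, hlu, -⟩, -⟩ := hu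
  obtain ⟨⟨hβ, hlv, -⟩, -⟩ := hv
  refine exists_pair_of (a := xG h.good α (1 : F) * nW F h.good u)
    (b := xG h.good β (1 : F) * nW F h.good v)
    (mul_mem (xG_mem_group _ _ _) (nW_mem_group h.good hlu))
    (mul_mem (xG_mem_group _ _ _) (nW_mem_group h.good hlv)) ?_
  set X := Subgroup.closure {xG h.good α (1 : F) * nW F h.good u,
    xG h.good β (1 : F) * nW F h.good v}
  have hord : ∀ r, xG h.good r (1 : F) ^ p = 1 := fun r => by
    rw [xG_pow, hp, zero_mul, xG_zero]
  obtain ⟨x1, z1⟩ := mem_of_mul (X := X) ha.1 (hord α) ha.2 hpm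
    (Subgroup.subset_closure (Set.mem_insert _ _))
  obtain ⟨x2, z2⟩ := mem_of_mul (X := X) hb.1 (hord β) hb.2 hpm
    (Subgroup.subset_closure (Set.mem_insert_of_mem _ rfl))
  refine group_le h h2 (ws := [u, v]) (fun w hw => ?_) (by simpa using ⟨z1, z2⟩) (known := [α, β])
    (by simpa using ⟨hα, hβ⟩) ?_ hcl
  · simp only [List.mem_cons, List.not_mem_nil, or_false] at hw
    rcases hw with rfl | rfl
    exacts [hlu, hlv]
  · simpa using ⟨full_of_one h.good (small_elems hq) one_ne_zero x1,
      full_of_one h.good (small_elems hq) one_ne_zero x2⟩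

/-- type `D4` over the field with two elements -/
theorem two_gen_D4_two [Fintype F] (hq : Fintype.card F = 2) :
    ∃ a b : ↥(chevD4.group F), Subgroup.closure ({a, b} : Set ↥(chevD4.group F)) = ⊤ := by
  haveI : CharP F 2 := charP_of_card_eq_prime_pow (f := 1) (by rw [hq, pow_one])
  have g := stdD4.good
  set x : GL chevD4.Idx F := xG stdD4.good 12 1 with hx
  set z : GL chevD4.Idx F := xG stdD4.good 13 1 * xG stdD4.good 10 1 with hz
  have hlet : Letters chevD4 [0, 1, 2, 3] := by unfold Letters; decide +kernel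
  refine exists_pair_of (a := x * z) (b := nW F stdD4.good [0, 1, 2, 3])
    (mul_mem (xG_mem_group _ _ _) (mul_mem (xG_mem_group _ _ _) (xG_mem_group _ _ _)))
    (nW_mem_group stdD4.good hlet) ?_
  set X := Subgroup.closure {x * z, nW F stdD4.good [0, 1, 2, 3]}
  have hn : nW F stdD4.good [0, 1, 2, 3] ∈ X :=
    Subgroup.subset_closure (Set.mem_insert_of_mem _ rfl)
  have id1 := word_eq_of_check (F := F) (A := auxD4) stdD4.good (p := 2)
    (w := [(12, 1), (13, 1), (10, 1)]) (w' := [(13, 1), (10, 1), (12, 1)]) (by decide +kernel)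
  have id2 := word_eq_of_check (F := F) (A := auxD4) stdD4.good (p := 2)
    (w := [(13, 1), (10, 1), (13, 1), (10, 1), (13, 1), (10, 1)]) (w' := []) (by decide +kernel)
  have id3 := word_eq_of_check (F := F) (A := auxD4) stdD4.good (p := 2)
    (w := [(13, 1), (10, 1), (3, 1), (10, 1), (13, 1)]) (w' := [(1, 1)]) (by decide +kernel)
  simp only [List.map_cons, List.map_nil, List.prod_cons, List.prod_nil, Int.cast_one, mul_one]
    at id1 id2 id3
  have hcomm : Commute x z := by
    show x * z = z * x
    rw [hx, hz, id1, mul_assoc]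
  have hz3 : z ^ 3 = 1 := by
    rw [hz, pow_three, ← id2]
    simp only [mul_assoc]
  have hx2 : x ^ 2 = 1 := by
    rw [hx, xG_pow, Nat.cast_ofNat, CharTwo.two_eq_zero, zero_mul, xG_zero]
  obtain ⟨hxX, hzX⟩ := mem_of_mul hcomm hx2 hz3 (by norm_num)
    (Subgroup.subset_closure (Set.mem_insert _ _) : x * z ∈ X)
  have hF := small_elems (F := F) (le_of_eq_of_le hq (by norm_num))
  have h12 : Full stdD4.good X 12 := full_of_one stdD4.good hF one_ne_zero hxX
  have h3 : Full stdD4.good X 3 := by
    have := h12.img hlet hn (by decide +kernel)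
    rwa [show wf auxD4 [0, 1, 2, 3] 12 = 3 by decide +kernel] at this
  have h1 : Full stdD4.good X 1 := by
    refine full_of_one stdD4.good hF one_ne_zero ?_
    rw [← id3]
    have hi : ∀ r : ℕ, (xG stdD4.good r (1 : F))⁻¹ = xG stdD4.good r 1 := fun r => by
      rw [xG_inv, CharTwo.neg_eq]
    have := mul_mem (mul_mem hzX (h3 1)) (inv_mem hzX)
    simpa [hz, hi, mul_assoc] using this
  refine group_le stdD4 (two := false) (by simp) (ws := [[0, 1, 2, 3]]) (fun w hw => ?_)
    (by simpa using hn) (known := [12, 1]) (by decide +kernel) ?_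
    (l := certD4s2) (by decide +kernel)
  · rw [List.mem_singleton] at hw; exact hw ▸ hlet
  · simpa using ⟨h12, h1⟩

lemma card_cases [Fintype F] : Fintype.card F = 2 ∨ Fintype.card F = 3 ∨ 4 ≤ Fintype.card F := by
  have := Fintype.one_lt_card (α := F)
  omega

lemma two_ne [Fintype F] (h : Fintype.card F = 3) : (2 : F) ≠ 0 := by
  haveI := Fact.mk Nat.prime_three
  haveI : CharP F 3 := charP_of_card_eq_prime_pow (f := 1) (by rw [h, pow_one])
  have : ((2 : ℕ) : F) ≠ 0 := fun e => absurd ((CharP.cast_eq_zero_iff F 3 2).1 e) (by norm_num)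
  simpa using this

/-- the Chevalley groups of the seven types are generated by two elements -/
theorem two_gen_seven [Fintype F] (D : ChevalleyDatum)
    (hD : D ∈ [chevG2, chevB2, chevD4, chevF4, chevE6, chevE7, chevE8])
    (hF : D ∈ [chevB2, chevG2] → ∃ x : F, x ≠ 0 ∧ x ≠ 1) :
    ∃ a b : ↥(D.group F), Subgroup.closure ({a, b} : Set ↥(D.group F)) = ⊤ := by
  have h3 : D ∈ [chevB2, chevG2] → Fintype.card F ≠ 2 := by
    intro hm hq
    obtain ⟨x, hx0, hx1⟩ := hF hm
    classical
    have : Subsingleton Fˣ := Fintype.card_le_one_iff_subsingleton.1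
      (by rw [Fintype.card_units, hq])
    exact hx1 (congrArg Units.val (Subsingleton.elim (Units.mk0 x hx0) 1))
  simp only [List.mem_cons, List.not_mem_nil, or_false] at hD
  rcases card_cases (F := F) with hq | hq | hq
  · haveI : CharP F 2 := charP_of_card_eq_prime_pow (f := 1) (by rw [hq, pow_one])
    have hle : Fintype.card F ≤ 3 := by omega
    rcases hD with rfl | rfl | rfl | rfl | rfl | rfl | rfl
    · exact absurd hq (h3 (by simp))
    · exact absurd hq (h3 (by simp))
    · exact two_gen_D4_two hq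
    · exact two_gen_pair stdF4 (two := false) (by simp) hle (p := 2) (m := 3)
        (CharP.cast_eq_zero F 2) (by norm_num) (α := 47) (β := 27) (u := [1, 0])
        (v := [3, 0, 1, 2, 1, 0]) (l := certF4s2) (by decide +kernel) (by decide +kernel)
        (split_two stdF4 hq (by decide +kernel)) (split_two stdF4 hq (by decide +kernel))
        (by decide +kernel)
    · exact two_gen_small stdE6 (two := false) (α := 36) (w := [0, 1, 2, 3, 4, 5]) (l := certE6s)
        (by decide +kernel) (by simp) hle
    · exact two_gen_small stdE7 (two := false) (α := 63) (w := [0, 1, 2, 3, 4, 5, 6]) (l := certE7s)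
        (by decide +kernel) (by simp) hle
    · exact two_gen_small stdE8 (two := false) (α := 120) (w := [0, 1, 2, 3, 4, 5, 6, 7])
        (l := certE8s) (by decide +kernel) (by simp) hle
  · haveI := Fact.mk Nat.prime_three
    haveI : CharP F 3 := charP_of_card_eq_prime_pow (f := 1) (by rw [hq, pow_one])
    have hle : Fintype.card F ≤ 3 := by omega
    have h2 := two_ne hq
    rcases hD with rfl | rfl | rfl | rfl | rfl | rfl | rfl
    · exact two_gen_pair stdG2 (two := true) (fun _ => h2) hle (p := 3) (m := 4)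
        (CharP.cast_eq_zero F 3) (by norm_num) (α := 11) (β := 8) (u := [0])
        (v := [0, 1, 0, 0, 0]) (l := certG2s) (by decide +kernel) (by decide +kernel)
        (split_odd stdG2 (by decide +kernel) (by decide +kernel))
        (split_odd stdG2 (by decide +kernel) (by decide +kernel))
        (by decide +kernel)
    · exact two_gen_small stdB2 (two := true) (α := 5) (w := [0, 1]) (l := certB2s)
        (by decide +kernel) (fun _ => h2) hle
    · exact two_gen_pair stdD4 (two := false) (by simp) hle (p := 3) (m := 4)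
        (CharP.cast_eq_zero F 3) (by norm_num) (α := 19) (β := 13) (u := [1, 2, 1, 0, 0])
        (v := [3, 0]) (l := certD4s3) (by decide +kernel) (by decide +kernel)
        (split_odd stdD4 (by decide +kernel) (by decide +kernel))
        (split_odd stdD4 (by decide +kernel) (by decide +kernel))
        (by decide +kernel)
    · exact two_gen_small stdF4 (two := true) (α := 27) (w := [0, 1, 2, 3]) (l := certF4s3)
        (by decide +kernel) (fun _ => h2) hle
    · exact two_gen_small stdE6 (two := false) (α := 36) (w := [0, 1, 2, 3, 4, 5]) (l := certE6s)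
        (by decide +kernel) (by simp) hle
    · exact two_gen_small stdE7 (two := false) (α := 63) (w := [0, 1, 2, 3, 4, 5, 6]) (l := certE7s)
        (by decide +kernel) (by simp) hle
    · exact two_gen_small stdE8 (two := false) (α := 120) (w := [0, 1, 2, 3, 4, 5, 6, 7])
        (l := certE8s) (by decide +kernel) (by simp) hle
  · rcases hD with rfl | rfl | rfl | rfl | rfl | rfl | rfl
    exacts [two_gen stdG2 bigG2 hq, two_gen stdB2 bigB2 hq, two_gen stdD4 bigD4 hq,
      two_gen stdF4 bigF4 hq, two_gen stdE6 bigE6 hq, two_gen stdE7 bigE7 hq, two_gen stdE8 bigE8 hq]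

end CfsgLib.Chev.TwoGen
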