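/-
Additive families acted on by torus elements; traces of fields with a Frobenius power.
-/
import Cfsg.Agent.Lib.Chev.TwoGen.Torus

set_option autoImplicit false

namespace CfsgLib.Chev.TwoGen

open Cfsg.Lie Matrix

variable {F : Type*} [Field F] {G : Type*} [Group G]

/-- a one-parameter family -/
structure Fam (T : F → G) : Prop where
  add : ∀ a b, T a * T b = T (a + b)

lemma Fam.zero {T : F → G} (hT : Fam T) : T 0 = 1 := by
  have := hT.add 0 0
  rwa [add_zero, mul_eq_left] at this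

lemma Fam.inv {T : F → G} (hT : Fam T) (a : F) : (T a)⁻¹ = T (-a) := by
  rw [inv_eq_iff_mul_eq_one, hT.add, add_neg_cancel, hT.zero]

/-- the parameters occurring in `X` -/
noncomputable def Fam.par {T : F → G} (hT : Fam T) (X : Subgroup G) : AddSubgroup F where
  carrier := {t | T t ∈ X}
  zero_mem' := by show T 0 ∈ X; rw [hT.zero]; exact one_mem X
  add_mem' {a b} ha hb := by show T (a + b) ∈ X; rw [← hT.add]; exact mul_mem ha hb
  neg_mem' {a} ha := by show T (-a) ∈ X; rw [← hT.inv]; exact inv_mem ha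

/-- a non-trivial member of the family from `H` and `T 1 * n` -/
lemma Fam.extract {T : F → G} (hT : Fam T) {X : Subgroup G} {H H' n : G} (hc : Commute H H')
    (hn : n * H * n⁻¹ = H') {k k' : F} (hH : ∀ t, H * T t * H⁻¹ = T (k * t))
    (hH' : ∀ t, H' * T t * H'⁻¹ = T (k' * t)) (hk : k ≠ 1) (hk' : k' ≠ 1) (hk0 : k' ≠ 0)
    (hHX : H ∈ X) (hb : T 1 * n ∈ X) : ∃ e, e ≠ 0 ∧ T e ∈ X := by
  have hP : T 1 * H' * (T 1)⁻¹ ∈ X := by
    have h1 := mul_mem (mul_mem hb hHX) (inv_mem hb)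
    rwa [show T 1 * n * H * (T 1 * n)⁻¹ = T 1 * (n * H * n⁻¹) * (T 1)⁻¹ by group, hn] at h1
  have e3 : ∀ t, H'⁻¹ * T t * H' = T (k'⁻¹ * t) := fun t => by
    have := hH' (k'⁻¹ * t)
    rw [← mul_assoc, mul_inv_cancel₀ hk0, one_mul] at this
    rw [← this]; group
  refine ⟨(k - 1) * (k'⁻¹ - 1), mul_ne_zero (sub_ne_zero.2 hk) (sub_ne_zero.2 ?_), ?_⟩
  · rw [Ne, inv_eq_one]; exact hk'
  have hcm : H * H' * H⁻¹ = H' := by rw [hc.eq, mul_inv_cancel_right]
  have e : (T 1 * H' * (T 1)⁻¹)⁻¹ * (H * (T 1 * H' * (T 1)⁻¹) * H⁻¹) =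
      T ((k - 1) * (k'⁻¹ - 1)) := by
    rw [show H * (T 1 * H' * (T 1)⁻¹) * H⁻¹ = (H * T 1 * H⁻¹) * (H * H' * H⁻¹) * (H * T 1 * H⁻¹)⁻¹
      by group, hcm, hH, mul_one,
      show (T 1 * H' * (T 1)⁻¹)⁻¹ * (T k * H' * (T k)⁻¹) =
        T 1 * (H'⁻¹ * ((T 1)⁻¹ * T k) * H') * (T k)⁻¹ by group,
      hT.inv, hT.inv, hT.add, e3, hT.add, hT.add]
    congr 1
    ring
  rw [← e]
  exact mul_mem (inv_mem hP) (mul_mem (mul_mem hHX hP) (inv_mem hHX))

/-- the whole family from one member and one multiplier -/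
lemma Fam.full [Finite F] {T : F → G} (hT : Fam T) {X : Subgroup G} {κ : Fˣ}
    (hκ : ∀ x : Fˣ, x ∈ Subgroup.zpowers κ) {m : ℤ} (hm : m ∈ [1, -1, 2, -2]) {H : G} (hHX : H ∈ X)
    (hH : ∀ t, H * T t * H⁻¹ = T (((κ ^ m : Fˣ) : F) * t)) {e : F} (he : e ≠ 0) (heX : T e ∈ X)
    (t : F) : T t ∈ X := by
  refine addSubgroup_top hκ hm (S := hT.par X) (fun x hx => ?_) heX he t
  show T _ ∈ X
  rw [← hH]
  exact mul_mem (mul_mem hHX hx) (inv_mem hHX)

/-- surjectivity of an additive map commuting with a scaling -/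
lemma exists_fixed_preimage (f : F →+ F) (σ : F →+* F) (hlin : ∀ s x, σ s = s → f (s * x) = s * f x)
    (hfix : ∀ x, σ (f x) = f x) (hne : ∃ x, f x ≠ 0) {s : F} (hs : σ s = s) : ∃ x, f x = s := by
  obtain ⟨x, hx⟩ := hne
  refine ⟨s / f x * x, ?_⟩
  rw [hlin _ _ (by rw [map_div₀, hs, hfix]), div_mul_cancel₀ _ hx]

open Polynomial in
lemma exists_trace_two [Fintype F] {q : ℕ} (hq : 2 ≤ q) (hK : Fintype.card F = q ^ 2) :
    ∃ x : F, x + x ^ q ≠ 0 := by
  classical
  by_contra! h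
  set p : F[X] := X + X ^ q
  have h1 : 1 < q := hq
  have hp0 : p ≠ 0 := by
    intro e
    have := congrArg (coeff · 1) e
    simp [p, coeff_X_pow, h1.ne] at this
  have hle := card_le_degree_of_subset_roots (p := p) (Z := Finset.univ) (fun x _ => by
    rw [mem_roots hp0]; simpa [p, IsRoot] using h x)
  have hdeg : p.natDegree ≤ q := by
    refine natDegree_add_le_of_degree_le ?_ (natDegree_X_pow_le q)
    exact natDegree_X_le.trans (by omega)
  rw [Finset.card_univ, hK] at hle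
  have : q * 2 ≤ q * q := Nat.mul_le_mul_left q hq
  nlinarith

open Polynomial in
lemma exists_trace_three [Fintype F] {q : ℕ} (hq : 2 ≤ q) (hK : Fintype.card F = q ^ 3) :
    ∃ x : F, x + x ^ q + x ^ (q ^ 2) ≠ 0 := by
  classical
  by_contra! h
  set p : F[X] := X + X ^ q + X ^ (q ^ 2)
  have h1 : 1 < q := hq
  have hq2 : q ≤ q ^ 2 := Nat.le_self_pow two_ne_zero q
  have hp0 : p ≠ 0 := by
    intro e
    have := congrArg (coeff · 1) e
    simp [p, coeff_X_pow, h1.ne, (h1.trans_le hq2).ne] at this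
  have hle := card_le_degree_of_subset_roots (p := p) (Z := Finset.univ) (fun x _ => by
    rw [mem_roots hp0]; simpa [p, IsRoot] using h x)
  have hdeg : p.natDegree ≤ q ^ 2 := by
    refine natDegree_add_le_of_degree_le ?_ (natDegree_X_pow_le _)
    refine natDegree_add_le_of_degree_le (natDegree_X_le.trans (by omega)) ?_
    exact (natDegree_X_pow_le q).trans hq2
  rw [Finset.card_univ, hK] at hle
  have : q ^ 2 * 2 ≤ q ^ 2 * q := Nat.mul_le_mul_left _ hq
  have : q ^ 3 = q ^ 2 * q := by ring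
  nlinarith

end CfsgLib.Chev.TwoGen
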