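/-
Two generators for the small Ree groups.
-/
import Cfsg.Agent.Lib.Chev.TwoGen.Torus
import Cfsg.Agent.Lib.Chev.Twist.Fam.G2

set_option autoImplicit false
set_option maxRecDepth 100000

namespace CfsgLib.Chev.TwoGen

open Cfsg.Lie Matrix

/-- the multipliers of an additive subgroup -/
def mult {F : Type*} [Field F] (S : AddSubgroup F) : Submonoid F where
  carrier := {x | ∀ y ∈ S, x * y ∈ S}
  mul_mem' {a b} ha hb := fun y hy => by rw [mul_assoc]; exact ha _ (hb y hy)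
  one_mem' := fun y hy => by rwa [one_mul]

namespace G2

open CfsgLib.Chev.G22

variable {K : Type*} [Field K] [CharP K 3] {σ : K →+* K}

/-- the first parameters occurring in `X` -/
noncomputable def tPar (hi : Inv3 σ) (X : Subgroup (GL chevG2.Idx K)) : AddSubgroup K where
  carrier := {t | ∃ u v, W (quad σ t u v) ∈ X}
  zero_mem' := ⟨0, 0, by
    rw [show W (quad σ (0 : K) 0 0) = 1 by simp [W, quad, xx, xG_zero]]; exact one_mem X⟩
  add_mem' {a b} := by
    rintro ⟨u, v, ha⟩ ⟨u', v', hb⟩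
    have h := mul_mem ha hb
    have hf := mul_mem (W_quad_fix hi a u v) (W_quad_fix hi b u' v')
    rw [quad, quad, W_mul] at h hf
    rw [exists_quad hf] at h
    exact ⟨_, _, h⟩
  neg_mem' {a} := by
    rintro ⟨u, v, ha⟩
    have h := mul_mem ha ha
    have hf := mul_mem (W_quad_fix hi a u v) (W_quad_fix hi a u v)
    rw [quad, W_mul] at h hf
    rw [exists_quad hf] at h
    dsimp only at h
    rw [show a + a = -a by linear_combination a * three (K := K)] at h
    exact ⟨_, _, h⟩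

/-- the second parameters occurring in `X` with vanishing first one -/
noncomputable def uPar (hi : Inv3 σ) (X : Subgroup (GL chevG2.Idx K)) : AddSubgroup K where
  carrier := {u | ∃ v, W (quad σ 0 u v) ∈ X}
  zero_mem' := ⟨0, by
    rw [show W (quad σ (0 : K) 0 0) = 1 by simp [W, quad, xx, xG_zero]]; exact one_mem X⟩
  add_mem' {a b} := by
    rintro ⟨v, ha⟩ ⟨v', hb⟩
    have h := mul_mem ha hb
    refine ⟨v + v', ?_⟩
    rw [quad, quad, W_mul] at h
    simpa [quad, add_assoc] using h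
  neg_mem' {a} := by
    rintro ⟨v, ha⟩
    have h := mul_mem ha ha
    refine ⟨v + v, ?_⟩
    rw [quad, W_mul] at h
    rw [show -a = a + a by linear_combination -a * three (K := K)]
    simpa [quad, add_assoc] using h

/-- the central parameters occurring in `X` -/
noncomputable def vPar (hi : Inv3 σ) (X : Subgroup (GL chevG2.Idx K)) : AddSubgroup K where
  carrier := {v | W (quad σ 0 0 v) ∈ X}
  zero_mem' := by
    show W (quad σ (0 : K) 0 0) ∈ X
    rw [show W (quad σ (0 : K) 0 0) = 1 by simp [W, quad, xx, xG_zero]]; exact one_mem X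
  add_mem' {a b} ha hb := by
    have h := mul_mem (show W (quad σ 0 0 a) ∈ X from ha) (show W (quad σ 0 0 b) ∈ X from hb)
    show W (quad σ 0 0 (a + b)) ∈ X
    rw [quad, quad, W_mul] at h
    simpa [quad] using h
  neg_mem' {a} ha := by
    have h := mul_mem (show W (quad σ 0 0 a) ∈ X from ha) (show W (quad σ 0 0 a) ∈ X from ha)
    show W (quad σ 0 0 (-a)) ∈ X
    rw [quad, W_mul] at h
    rw [show -a = a + a by linear_combination -a * three (K := K)]
    simpa [quad] using h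

variable {e : ℕ}

lemma scale_mem (hi : Inv3 σ) {X : Subgroup (GL chevG2.Idx K)} {y : Kˣ} (hy : hR σ y ∈ X)
    {t u v : K} (h : W (quad σ t u v) ∈ X) :
    ∃ v', W (quad σ (((σ y ^ 3)⁻¹ * (y : K) ^ 2) * t) ((σ y ^ 3 * (y : K)⁻¹) * u) v') ∈ X ∧
      v' = (y : K) * v := by
  have h' := mul_mem (mul_mem hy h) (inv_mem hy)
  have hf := mul_mem (mul_mem (hR_fix hi y) (W_quad_fix hi t u v)) (inv_mem (hR_fix hi y))
  rw [hR_conj_W] at h' hf
  rw [exists_quad hf] at h'
  exact ⟨_, h', rfl⟩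

/-- `g` is an element of `U` with first parameter `t` -/
def HasT (σ : K →+* K) (t : K) (g : GL chevG2.Idx K) : Prop := ∃ u v, g = W (quad σ t u v)

lemma hasT_mul (hi : Inv3 σ) {a b : K} {g g' : GL chevG2.Idx K} (ha : HasT σ a g) (hb : HasT σ b g') :
    HasT σ (a + b) (g * g') := by
  obtain ⟨u, v, rfl⟩ := ha
  obtain ⟨u', v', rfl⟩ := hb
  have hf := mul_mem (W_quad_fix hi a u v) (W_quad_fix hi b u' v')
  rw [quad, quad, W_mul] at hf
  have e : W (quad σ a u v) * W (quad σ b u' v') = _ :=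
    (by rw [quad, quad, W_mul] : W (quad σ a u v) * W (quad σ b u' v') = _).trans
      (congrArg W (exists_quad hf))
  exact ⟨_, _, e⟩

lemma W_zero_quad : W (quad σ (0 : K) 0 0) = 1 := by simp [W, quad, xx, xG_zero]

lemma hasT_inv (hi : Inv3 σ) {a : K} {g : GL chevG2.Idx K} (ha : HasT σ a g) :
    HasT σ (-a) g⁻¹ := by
  have h2 := hasT_mul hi ha ha
  obtain ⟨u, v, h3⟩ := hasT_mul hi h2 ha
  rw [show a + a + a = 0 by linear_combination a * three (K := K)] at h3
  have hinv : g⁻¹ = g * g * W (quad σ 0 (-u) (-v)) := by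
    rw [inv_eq_iff_mul_eq_one, ← mul_assoc, show g * (g * g) = g * g * g by group, h3,
      ← W_zero_quad (σ := σ)]
    simp [quad, W_mul]
  rw [hinv, show -a = a + a + 0 by linear_combination -a * three (K := K)]
  exact hasT_mul hi h2 ⟨_, _, rfl⟩

lemma hasT_conj (hi : Inv3 σ) (y : Kˣ) {a : K} {g : GL chevG2.Idx K} (ha : HasT σ a g) :
    HasT σ (((σ y ^ 3)⁻¹ * (y : K) ^ 2) * a) (hR σ y * g * (hR σ y)⁻¹) := by
  obtain ⟨u, v, rfl⟩ := ha
  have hf := mul_mem (mul_mem (hR_fix hi y) (W_quad_fix hi a u v)) (inv_mem (hR_fix hi y))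
  rw [hR_conj_W] at hf
  exact ⟨_, _, (hR_conj_W y _).trans (congrArg W (exists_quad hf))⟩

theorem two_gen [Fintype K] (hσ : ∀ x, σ x = x ^ e) (hi : Inv3 σ) (h4 : Fintype.card K % 4 = 3)
    (hout : ∃ y : Kˣ, (y : K) ^ 3 ≠ y) :
    ∃ a b : ↥(twistedG2 K e), Subgroup.closure ({a, b} : Set ↥(twistedG2 K e)) = ⊤ := by
  classical
  obtain ⟨κ, hκ⟩ := IsCyclic.exists_generator (α := Kˣ)
  have hκ3 : (κ : K) ^ 3 ≠ κ := by
    intro h
    obtain ⟨y, hy⟩ := hout
    obtain ⟨j, rfl⟩ := hκ y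
    have h3 : κ ^ 3 = κ := Units.ext (by rw [Units.val_pow_eq_pow_val]; exact h)
    refine hy ?_
    show ((κ ^ j : Kˣ) : K) ^ 3 = ((κ ^ j : Kˣ) : K)
    rw [← Units.val_pow_eq_pow_val, ← zpow_natCast (κ ^ j), ← _root_.zpow_mul, mul_comm,
      _root_.zpow_mul, zpow_natCast, h3]
  have hκ1 : (κ : K) ≠ 1 := fun h => hκ3 (by rw [h]; ring)
  set H := hR σ κ with hH
  set n := (tw σ).nJ 0 with hn
  set x := W (quad σ (1 : K) 0 0) with hx
  have hfixeq := twisted_eq_fix hσ hi h4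
  have hHm : H ∈ twistedG2 K e := by rw [hfixeq]; exact hR_fix hi κ
  refine exists_pair_of (a := H) (b := x * n) hHm
    (mul_mem (mem_U hσ _ _ _) (nJ_mem hσ 0 (by decide))) ?_
  set X := Subgroup.closure {H, x * n}
  have hHX : H ∈ X := Subgroup.subset_closure (Set.mem_insert _ _)
  have hbX : x * n ∈ X := Subgroup.subset_closure (Set.mem_insert_of_mem _ rfl)
  -- an element of `U` with non-zero first parameter
  have hP : x * H⁻¹ * x⁻¹ ∈ X := by
    have h1 := mul_mem (mul_mem hbX hHX) (inv_mem hbX)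
    have hinv : hR σ κ⁻¹ = H⁻¹ := map_inv (hR σ) κ
    have hc : n * H * n⁻¹ = H⁻¹ := (nJ_hR κ).trans hinv
    rwa [show x * n * H * (x * n)⁻¹ = x * (n * H * n⁻¹) * x⁻¹ by group, hc] at h1
  have he := mul_mem (inv_mem hP) (mul_mem (mul_mem hHX hP) (inv_mem hHX))
  set k : K := (σ κ ^ 3)⁻¹ * (κ : K) ^ 2 with hk
  have hk1 : k ≠ 1 := by
    intro h
    rw [hk, inv_mul_eq_one₀ (pow_ne_zero 3 ((map_ne_zero σ).2 κ.ne_zero))] at h
    exact hκ1 (scale_ne hi κ.ne_zero h)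
  obtain ⟨d, hd, hdX⟩ : ∃ d, d ≠ 0 ∧ d ∈ tPar hi X := by
    refine ⟨(1 - k) ^ 2, pow_ne_zero 2 (sub_ne_zero.2 (Ne.symm hk1)), ?_⟩
    have hxT : HasT σ 1 x := ⟨0, 0, rfl⟩
    have e1 : (x * H⁻¹ * x⁻¹)⁻¹ * (H * (x * H⁻¹ * x⁻¹) * H⁻¹) =
        x * (H * x * H⁻¹)⁻¹ * (H * (H * x * H⁻¹) * H⁻¹) * (H * x * H⁻¹)⁻¹ := by group
    rw [e1] at he
    have hA1 := hasT_conj hi κ hxT
    have hA2 := hasT_conj hi κ hA1
    obtain ⟨u, v, h⟩ := hasT_mul hi (hasT_mul hi (hasT_mul hi hxT (hasT_inv hi hA1)) hA2)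
      (hasT_inv hi hA1)
    refine ⟨u, v, ?_⟩
    rw [show (1 - k) ^ 2 = 1 + -(k * 1) + k * (k * 1) + -(k * 1) by ring, hk]
    exact h ▸ he
  -- multipliers
  have hσpow : ∀ z : Kˣ, σ (z : K) = ((z ^ e : Kˣ) : K) := fun z => by
    rw [hσ, Units.val_pow_eq_pow_val]
  have hσk : σ k = (σ κ) ^ 2 * (κ : K)⁻¹ := by
    rw [hk, map_mul, map_inv₀, map_pow, map_pow, hi, mul_comm]
  have tTop : ∀ t, t ∈ tPar hi X := by
    refine fun t => addSubgroup_top hκ (m := 1) (by simp) (S := tPar hi X) ?_ hdX hd t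
    have hkM : k ∈ mult (tPar hi X) := fun s ⟨u, v, h⟩ => by
      obtain ⟨v', h', -⟩ := scale_mem hi hHX h
      exact ⟨_, _, h'⟩
    have h2 : σ k ∈ mult (tPar hi X) := by rw [hσ]; exact pow_mem hkM e
    have h3 : ((κ ^ (1 : ℤ) : Kˣ) : K) = k ^ 2 * σ k ^ 3 := by
      rw [zpow_one, hσk, hk]
      have := (map_ne_zero σ).2 κ.ne_zero
      field_simp
    rw [h3]
    exact mul_mem (pow_mem hkM 2) (pow_mem h2 3)
  set δ : K := (κ : K) - σ (κ : K) ^ 3 with hδ
  have hδ0 : δ ≠ 0 := sub_ne_zero.2 fun h => hκ3 (scale_ne' hi h.symm)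
  have hδX : δ ∈ uPar hi X := by
    obtain ⟨u, v, h1⟩ := tTop 1
    obtain ⟨u', v', h2⟩ := tTop (κ : K)
    set g1 := W (quad σ (1 : K) u v)
    set g2 := W (quad σ (κ : K) u' v')
    have hc : g1 * g2 * (g2 * g1)⁻¹ ∈ X := mul_mem (mul_mem h1 h2) (inv_mem (mul_mem h2 h1))
    have g1T : HasT σ 1 g1 := ⟨u, v, rfl⟩
    have g2T : HasT σ (κ : K) g2 := ⟨u', v', rfl⟩
    obtain ⟨f, w, hq⟩ := hasT_mul hi (hasT_mul hi g1T g2T) (hasT_inv hi (hasT_mul hi g2T g1T))
    rw [show (1 : K) + κ + -((κ : K) + 1) = 0 by ring] at hq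
    have heq : W (quad σ 0 f w) * (g2 * g1) = g1 * g2 := by rw [← hq]; group
    simp only [g1, g2, quad, W_mul] at heq
    have e' := W_inj heq
    simp only [Co.mk.injEq] at e'
    obtain ⟨-, -, -, -, ef, -⟩ := e'
    have hf0 : f = δ := by
      rw [hδ]
      simp only [map_one, map_zero] at ef
      linear_combination ef
    subst hf0
    rw [hq] at hc
    exact ⟨_, hc⟩
  have uTop : ∀ u, u ∈ uPar hi X := by
    refine fun u => addSubgroup_top hκ (m := 2) (by simp) (S := uPar hi X) ?_ hδX hδ0 u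
    set l : K := σ κ ^ 3 * (κ : K)⁻¹ with hl
    have hlM : l ∈ mult (uPar hi X) := fun s ⟨v, h⟩ => by
      obtain ⟨v', h', -⟩ := scale_mem hi hHX h
      rw [mul_zero] at h'
      exact ⟨_, h'⟩
    have h2 : σ l ∈ mult (uPar hi X) := by rw [hσ]; exact pow_mem hlM e
    have h3 : ((κ ^ (2 : ℤ) : Kˣ) : K) = l * σ l ^ 3 := by
      rw [hl, map_mul, map_inv₀, map_pow, hi, zpow_ofNat, Units.val_pow_eq_pow_val]
      have := (map_ne_zero σ).2 κ.ne_zero
      field_simp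
    rw [h3]
    exact mul_mem hlM (pow_mem h2 3)
  have vTop : ∀ v, v ∈ vPar hi X := by
    have hv1 : ∀ w : K, w ∈ vPar hi X := by
      intro w
      obtain ⟨u, v, h1⟩ := tTop 1
      obtain ⟨z, h2⟩ := uTop w
      set g1 := W (quad σ (1 : K) u v)
      set g2 := W (quad σ (0 : K) w z)
      have hc : g1 * g2 * (g2 * g1)⁻¹ ∈ X := mul_mem (mul_mem h1 h2) (inv_mem (mul_mem h2 h1))
      have heq : W (quad σ 0 0 w) * (g2 * g1) = g1 * g2 := by
        simp only [g1, g2, quad, W_mul]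
        congr 1
        simp only [Co.mk.injEq, map_one, map_zero]
        refine ⟨by ring, by ring, ?_, ?_, by ring, by ring⟩ <;> ring
      rw [show g1 * g2 * (g2 * g1)⁻¹ = W (quad σ 0 0 w) by rw [← heq, mul_inv_cancel_right]] at hc
      exact hc
    exact hv1
  have hU : ∀ t u v, W (quad σ t u v) ∈ X := by
    intro t u v
    obtain ⟨u0, v0, h⟩ := tTop t
    obtain ⟨v1, h1⟩ := uTop (u - u0)
    have h2 : W (quad σ 0 0 (v - v0 - v1)) ∈ X := vTop _
    have e2 : W (quad σ t u v) = W (quad σ t u0 v0) * (W (quad σ 0 (u - u0) v1) *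
        W (quad σ 0 0 (v - v0 - v1))) := by
      simp only [quad, W_mul]
      simp [add_assoc, ← map_add]
    rw [e2]
    exact mul_mem h (mul_mem h1 h2)
  have hnX : n ∈ X := by
    have := mul_mem (inv_mem (hU 1 0 0)) hbX
    rwa [← hx, inv_mul_cancel_left] at this
  exact gen_le hσ hU fun y hy => mul_mem (mul_mem hnX hy) (inv_mem hnX)

end G2

end CfsgLib.Chev.TwoGen
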