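/-
Two generators for the large Ree groups.
-/
import Cfsg.Agent.Lib.Chev.TwoGen.TwistG2
import Cfsg.Agent.Lib.Chev.Twist.Fam.F4

set_option autoImplicit false
set_option maxRecDepth 100000

namespace CfsgLib.Chev.TwoGen

open Cfsg.Lie Matrix

variable {D : ChevalleyDatum} {A : Aux} {F : Type*} [Field F]

lemma xG_inj_param (g : Good D A) {r : ℕ} (hr : r < D.nroots) {t u : F}
    (h : xG g r t = xG g r u) : t = u := by
  obtain ⟨i, hi⟩ := xG_inj_root.exists_coro_ne_zero (F := F) g hr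
  have hent : ∀ t : F, ((xG g r t : GL D.Idx F) : Matrix D.Idx D.Idx F) (Sum.inl i)
      (Sum.inr ⟨A.neg r, g.neg_lt r hr⟩) = t * (A.coro r i : F) := fun t => by
    rw [xG_val, x_entry g hr]
  have h1 := hent t
  rw [h, hent u] at h1
  exact (mul_right_cancel₀ hi h1).symm

/-- the characters of a conjugated torus element -/
lemma chi_conj (g : Good D A) {w : List ℕ} (hw : Letters D w) {c d : Fin D.rank → Fˣ}
    (hd : nW F g w * tor D A c * (nW F g w)⁻¹ = tor D A d) {r₀ : ℕ} (hr₀ : r₀ < D.nroots) :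
    chi D A d (wf A w r₀) = chi D A c r₀ := by
  set n := nW F g w with hn
  have hs2 : (sgnW A w r₀ : F) * (sgnW A w r₀ : F) = 1 := by
    rcases sgnW_cases g hw hr₀ with e | e <;> simp [e]
  set s : F := (sgnW A w r₀ : F) with hs
  have hs0 : s ≠ 0 := left_ne_zero_of_mul_eq_one hs2
  have h1 : n * (tor D A c * xG g r₀ 1 * (tor D A c)⁻¹) * n⁻¹ =
      xG g (wf A w r₀) (s * (chi D A c r₀ : F)) := by
    rw [tor_conj_xG g c hr₀, mul_one, hn, nW_conj_xG g hw hr₀]
  rw [show n * (tor D A c * xG g r₀ 1 * (tor D A c)⁻¹) * n⁻¹ =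
    (n * tor D A c * n⁻¹) * (n * xG g r₀ 1 * n⁻¹) * (n * tor D A c * n⁻¹)⁻¹ by group, hd, hn,
    nW_conj_xG g hw hr₀, tor_conj_xG g d (wf_lt g hw hr₀), ← hs] at h1
  have h2 := xG_inj_param g (wf_lt g hw hr₀) h1
  refine Units.ext (mul_left_cancel₀ hs0 ?_)
  linear_combination h2

namespace F4

open CfsgLib.Chev.F42

variable {K : Type*} [Field K] [CharP K 2] {σ : K →+* K} {e : ℕ}

lemma cancel_self (x : K) : -x = x := CharTwo.neg_eq x

/-- `g` is an element of the class of type `B2` with first parameter `t` -/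
def HasT (σ : K →+* K) (t : K) (g : GL chevF4.Idx K) : Prop := ∃ u, g = W (quad σ t u)

lemma hasT_mul (hi : Inv2 σ) {a b : K} {g g' : GL chevF4.Idx K} (ha : HasT σ a g) (hb : HasT σ b g') :
    HasT σ (a + b) (g * g') := by
  obtain ⟨u, rfl⟩ := ha
  obtain ⟨u', rfl⟩ := hb
  have hf := mul_mem (W_quad_fix hi a u) (W_quad_fix hi b u')
  rw [quad, quad, W_mul] at hf
  obtain ⟨w, hw⟩ := exists_quad hi hf
  exact ⟨w, (by rw [quad, quad, W_mul] : W (quad σ a u) * W (quad σ b u') = _).trans (congrArg W hw)⟩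

lemma W_zero_quad : W (quad σ (0 : K) 0) = 1 := by simp [W, quad, xx, xG_zero]

lemma quad_add (u u' : K) : W (quad σ 0 u) * W (quad σ 0 u') = W (quad σ 0 (u + u')) := by
  rw [quad, quad, W_mul]
  congr 1
  simp only [quad, map_zero, mul_zero, add_zero, zero_add, map_add, CharTwo.add_sq,
    ne_eq, OfNat.ofNat_ne_zero, not_false_eq_true, zero_pow]

lemma hasT_inv (hi : Inv2 σ) {a : K} {g : GL chevF4.Idx K} (ha : HasT σ a g) :
    HasT σ a g⁻¹ := by
  obtain ⟨u, h2⟩ := hasT_mul hi ha ha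
  rw [CharTwo.add_self_eq_zero] at h2
  have hinv : g⁻¹ = g * W (quad σ 0 u) := by
    rw [inv_eq_iff_mul_eq_one, ← mul_assoc, h2, quad_add, CharTwo.add_self_eq_zero, W_zero_quad]
  rw [hinv]
  simpa using hasT_mul hi ha (⟨u, rfl⟩ : HasT σ 0 _)

lemma tor_conj_W (c : Fin chevF4.rank → Kˣ) (q : K × K × K × K) :
    tor chevF4 auxF4 c * W q * (tor chevF4 auxF4 c)⁻¹ =
      W ((chi chevF4 auxF4 c 27 : K) * q.1, (chi chevF4 auxF4 c 25 : K) * q.2.1,
        (chi chevF4 auxF4 c 28 : K) * q.2.2.1, (chi chevF4 auxF4 c 30 : K) * q.2.2.2) := by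
  set h := (tor chevF4 auxF4 c : GL chevF4.Idx K) with hh
  rw [W, show h * (xx 27 q.1 * xx 25 q.2.1 * xx 28 q.2.2.1 * xx 30 q.2.2.2) * h⁻¹ =
    (h * xx 27 q.1 * h⁻¹) * (h * xx 25 q.2.1 * h⁻¹) * (h * xx 28 q.2.2.1 * h⁻¹) *
      (h * xx 30 q.2.2.2 * h⁻¹) by group, hh]
  simp only [xx]
  rw [tor_conj_xG stdF4.good c (show 27 < chevF4.nroots by decide +kernel),
    tor_conj_xG stdF4.good c (show 25 < chevF4.nroots by decide +kernel),
    tor_conj_xG stdF4.good c (show 28 < chevF4.nroots by decide +kernel),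
    tor_conj_xG stdF4.good c (show 30 < chevF4.nroots by decide +kernel)]
  rfl

lemma hasT_conj (hi : Inv2 σ) {c : Fin chevF4.rank → Kˣ}
    (hc : tor chevF4 auxF4 c ∈ (tw σ).fix) {a : K} {g : GL chevF4.Idx K} (ha : HasT σ a g) :
    HasT σ ((chi chevF4 auxF4 c 25 : K) * a)
      (tor chevF4 auxF4 c * g * (tor chevF4 auxF4 c)⁻¹) := by
  obtain ⟨u, rfl⟩ := ha
  have hf := mul_mem (mul_mem hc (W_quad_fix hi a u)) (inv_mem hc)
  rw [tor_conj_W] at hf
  obtain ⟨w, hw⟩ := exists_quad hi hf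
  exact ⟨w, (tor_conj_W c _).trans (congrArg W hw)⟩

/-- the first parameters occurring in `X` -/
noncomputable def tPar (hi : Inv2 σ) (X : Subgroup (GL chevF4.Idx K)) : AddSubgroup K where
  carrier := {t | ∃ g, HasT σ t g ∧ g ∈ X}
  zero_mem' := ⟨1, ⟨0, W_zero_quad.symm⟩, one_mem X⟩
  add_mem' {a b} := by
    rintro ⟨g, hg, hgX⟩ ⟨g', hg', hgX'⟩
    exact ⟨g * g', hasT_mul hi hg hg', mul_mem hgX hgX'⟩
  neg_mem' {a} := by
    rintro ⟨g, hg, hgX⟩
    exact ⟨g, by rwa [cancel_self], hgX⟩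

/-- the central parameters occurring in `X` -/
noncomputable def uPar (X : Subgroup (GL chevF4.Idx K)) : AddSubgroup K where
  carrier := {u | W (quad σ 0 u) ∈ X}
  zero_mem' := by
    show W (quad σ (0 : K) 0) ∈ X
    rw [W_zero_quad]; exact one_mem X
  add_mem' {a b} ha hb := by
    show W (quad σ 0 (a + b)) ∈ X
    rw [← quad_add]; exact mul_mem ha hb
  neg_mem' {a} ha := by
    show W (quad σ 0 (-a)) ∈ X
    rw [cancel_self]; exact ha

lemma pair_add (t u : K) : xx 33 (σ t) * xx 24 t * (xx 33 (σ u) * xx 24 u) =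
    xx 33 (σ (t + u)) * xx 24 (t + u) := by
  rw [show xx 33 (σ t) * xx 24 t * (xx 33 (σ u) * xx 24 u) =
      xx 33 (σ t) * (xx 24 t * xx 33 (σ u)) * xx 24 u by group,
    (commP (r := 24) (s := 33) (by decide +kernel) t (σ u)).eq,
    show xx 33 (σ t) * (xx 33 (σ u) * xx 24 t) * xx 24 u =
      (xx 33 (σ t) * xx 33 (σ u)) * (xx 24 t * xx 24 u) by group]
  simp only [xx, xG_add, map_add]

/-- the parameters of the pair class occurring in `X` -/
noncomputable def pPar (X : Subgroup (GL chevF4.Idx K)) : AddSubgroup K where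
  carrier := {t | xx 33 (σ t) * xx 24 t ∈ X}
  zero_mem' := by
    show xx 33 (σ (0 : K)) * xx 24 0 ∈ X
    simp only [map_zero, xx, xG_zero, one_mul]; exact one_mem X
  add_mem' {a b} ha hb := by
    show xx 33 (σ (a + b)) * xx 24 (a + b) ∈ X
    rw [← pair_add]; exact mul_mem ha hb
  neg_mem' {a} ha := by
    show xx 33 (σ (-a)) * xx 24 (-a) ∈ X
    rw [cancel_self]; exact ha

lemma gen_le_flip (hσ : ∀ x, σ x = x ^ e) {X : Subgroup (GL chevF4.Idx K)}
    (h0 : ∀ t, xx 33 (σ t) * xx 24 t ∈ X) (h1 : ∀ t u, W (quad σ t u) ∈ X) {w : List ℕ}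
    (hw : Letters chevF4 w) (hn : nW K stdF4.good w ∈ X)
    (e33 : wf auxF4 w 33 = 14) (e24 : wf auxF4 w 24 = 23) (e27 : wf auxF4 w 27 = 20)
    (e25 : wf auxF4 w 25 = 22) (e28 : wf auxF4 w 28 = 19) (e30 : wf auxF4 w 30 = 17) :
    twistedF4 K e ≤ X := by
  rw [twistedF4, genSubgroup_eq stdF4.good, Subgroup.closure_le]
  rintro y ⟨w', hw', rfl⟩
  set n := nW K stdF4.good w with hndef
  have hc : ∀ r r', r < chevF4.nroots → wf auxF4 w r = r' → ∀ t : K, n * xx r t * n⁻¹ = xx r' t :=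
    fun r r' hr er t => F42.conj_nW hw hr er (sgnW_cases stdF4.good hw hr) t
  obtain ⟨t, u, h | h | h | h⟩ := words_eq hσ w' hw' <;> rw [SetLike.mem_coe, h]
  · exact h0 t
  · rw [← hc 33 14 (by decide +kernel) e33, ← hc 24 23 (by decide +kernel) e24]
    rw [show n * xx 33 (σ t) * n⁻¹ * (n * xx 24 t * n⁻¹) = n * (xx 33 (σ t) * xx 24 t) * n⁻¹ by group]
    exact mul_mem (mul_mem hn (h0 t)) (inv_mem hn)
  · exact h1 t u
  · obtain ⟨q, hq⟩ : ∃ q, q = quad σ t u := ⟨_, rfl⟩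
    rw [← hq, ← hc 27 20 (by decide +kernel) e27, ← hc 25 22 (by decide +kernel) e25,
      ← hc 28 19 (by decide +kernel) e28, ← hc 30 17 (by decide +kernel) e30,
      show n * xx 27 q.1 * n⁻¹ * (n * xx 25 q.2.1 * n⁻¹) * (n * xx 28 q.2.2.1 * n⁻¹) *
        (n * xx 30 q.2.2.2 * n⁻¹) = n * W q * n⁻¹ by rw [W]; group, hq]
    exact mul_mem (mul_mem hn (h1 t u)) (inv_mem hn)

theorem two_gen [Fintype K] (hσ : ∀ x, σ x = x ^ e) (hi : Inv2 σ)
    (h4 : 4 ≤ Fintype.card K) :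
    ∃ a b : ↥(twistedF4 K e), Subgroup.closure ({a, b} : Set ↥(twistedF4 K e)) = ⊤ := by
  classical
  obtain ⟨d, hκ⟩ := IsCyclic.exists_generator (α := Kˣ)
  have hd1 : (d : K) ≠ 1 := by
    intro h
    have := pow_small_ne_one h4 hκ (m := 1) (by simp)
    exact this (by rw [zpow_one]; exact Units.ext h)
  set dσ : Kˣ := Units.map σ.toMonoidHom d with hdσ
  set c := expT chevF4 [0, 0, 2, 1] d * expT chevF4 [1, 2, 0, 0] dσ with hc
  have hchi : ∀ (r : ℕ) (i j : ℤ), pair chevF4 auxF4 [0, 0, 2, 1] r = i →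
      pair chevF4 auxF4 [1, 2, 0, 0] r = j →
      (chi chevF4 auxF4 c r : K) = (d : K) ^ i * σ (d : K) ^ j := by
    intro r i j e1 e2
    rw [hc, chi_mul, chi_expT, chi_expT, e1, e2, Units.val_mul, Units.val_zpow_eq_zpow_val,
      Units.val_zpow_eq_zpow_val]
    rfl
  have hcfix : c ∈ (tw σ).thetaFix := by
    have hcv : ∀ i : Fin 4, c (ix i) = d ^ [(0 : ℤ), 0, 2, 1].getD i.val 0 *
        dσ ^ [(1 : ℤ), 2, 0, 0].getD i.val 0 := fun i => rfl
    refine (thetaFix_iff hi _).2 ⟨?_, ?_⟩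
    · rw [hcv, hcv]; simp [hdσ]
    · rw [hcv, hcv]; simp [hdσ, map_pow]
  set H : GL chevF4.Idx K := tor chevF4 auxF4 c with hH
  have hHfix : H ∈ (tw σ).fix := ((tw σ).tor_mem_fix_iff _).2 (congrArg _ ((tw σ).mem_thetaFix.1 hcfix))
  have hfixeq := twisted_eq_fix hσ hi
  set y := xx 33 (σ (1 : K)) * xx 24 1 with hy
  have hlet : Letters chevF4 [1, 2, 1, 2, 0, 3] := by unfold Letters; decide +kernel
  set n := nW K stdF4.good [1, 2, 1, 2, 0, 3] with hn
  have hnfix : n = (tw σ).nJ 1 * (tw σ).nJ 0 := by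
    show _ = nW K stdF4.good [1, 2, 1, 2] * nW K stdF4.good [0, 3]
    simp [hn, nW, mul_assoc]
  set x := W (quad σ (1 : K) 0) with hx
  refine exists_pair_of (a := y * H) (b := x * n)
    (mul_mem (word_pair hσ 1) (by rw [hfixeq]; exact hHfix))
    (mul_mem (word_W hσ _ _) (by rw [hnfix]; exact mul_mem (nJ_mem hσ 1 (by decide)) (nJ_mem hσ 0 (by decide))))
    ?_
  set X := Subgroup.closure {y * H, x * n}
  have haX : y * H ∈ X := Subgroup.subset_closure (Set.mem_insert _ _)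
  have hbX : x * n ∈ X := Subgroup.subset_closure (Set.mem_insert_of_mem _ rfl)
  have hσ0 : σ (d : K) ≠ 0 := (map_ne_zero σ).2 d.ne_zero
  -- separate the two factors of the first generator
  have hcomm : Commute y H := by
    have e24 := tor_conj_xG stdF4.good c (show 24 < chevF4.nroots by decide +kernel) (1 : K)
    have e33 := tor_conj_xG stdF4.good c (show 33 < chevF4.nroots by decide +kernel) (σ (1 : K))
    rw [hchi 24 0 0 (by decide +kernel) (by decide +kernel)] at e24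
    rw [hchi 33 0 0 (by decide +kernel) (by decide +kernel)] at e33
    simp only [_root_.zpow_zero, mul_one, one_mul, mul_inv_eq_iff_eq_mul] at e24 e33
    exact (Commute.mul_right (a := H) e33 e24).symm
  have hy2 : y ^ 2 = 1 := by
    rw [pow_two, hy, pair_add, CharTwo.add_self_eq_zero]
    simp [xx, xG_zero]
  have hHq : H ^ (Fintype.card K - 1) = 1 := by
    rw [hH, ← map_pow]
    have : c ^ (Fintype.card K - 1) = 1 := funext fun i => by
      rw [Pi.pow_apply, Pi.one_apply, ← Fintype.card_units, pow_card_eq_one]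
    rw [this, map_one]
  have hcop : Nat.Coprime 2 (Fintype.card K - 1) := by
    obtain ⟨m, -, hm⟩ := FiniteField.card K 2
    rw [hm]
    refine Nat.coprime_two_left.2 (Nat.Even.sub_odd (Nat.one_le_two_pow) ?_ odd_one)
    exact (even_two).pow_of_ne_zero m.ne_zero
  obtain ⟨hyX, hHX⟩ := mem_of_mul hcomm hy2 hHq hcop haX
  -- the conjugate torus element
  obtain ⟨c', hc'⟩ := monomial_conj_tor stdF4.good (nW_mem (F := K) stdF4.good hlet) c
  have hchi' := fun r₀ (hr₀ : r₀ < chevF4.nroots) => chi_conj stdF4.good hlet hc' hr₀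
  have k' : (chi chevF4 auxF4 c' 25 : K) = (d : K) ^ (-3 : ℤ) * σ (d : K) ^ (4 : ℤ) := by
    rw [show (25 : ℕ) = wf auxF4 [1, 2, 1, 2, 0, 3] 21 by decide +kernel, hchi' 21 (by decide +kernel)]
    exact hchi 21 _ _ (by decide +kernel) (by decide +kernel)
  set H' : GL chevF4.Idx K := tor chevF4 auxF4 c' with hH'
  have hH'fix : H' ∈ (tw σ).fix := by
    rw [← hc', ← hH, ← hn, hnfix]
    have hnf := mul_mem ((tw σ).nJ_fix (j := 1) (by decide)) ((tw σ).nJ_fix (j := 0) (by decide))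
    exact mul_mem (mul_mem hnf hHfix) (inv_mem hnf)
  set k : K := (d : K) ^ (3 : ℤ) * σ (d : K) ^ (-4 : ℤ) with hk
  have hk25 : (chi chevF4 auxF4 c 25 : K) = k := hchi 25 _ _ (by decide +kernel) (by decide +kernel)
  have hkk' : (chi chevF4 auxF4 c' 25 : K) = k⁻¹ := by
    rw [k', hk, mul_inv, ← _root_.zpow_neg, ← _root_.zpow_neg]
    norm_num
  have hσk : σ k = σ (d : K) ^ (3 : ℤ) * ((d : K) ^ 2)⁻¹ := by
    rw [hk, map_mul, map_zpow₀, map_zpow₀]
    congr 1
    rw [_root_.zpow_neg, show ((4 : ℤ)) = ((4 : ℕ) : ℤ) from rfl, zpow_natCast,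
      show σ (σ (d : K)) ^ 4 = (σ (σ (d : K)) ^ 2) ^ 2 by ring, hi]
  have hkd : k ^ 3 * σ k ^ 4 = (d : K) := by
    rw [hσk, hk]
    simp only [_root_.zpow_neg, zpow_ofNat]
    field_simp
  have hk1 : k ≠ 1 := by
    intro h
    refine hd1 ?_
    rw [← hkd, h, map_one]; ring
  have hP : x * H' * x⁻¹ ∈ X := by
    have h1 := mul_mem (mul_mem hbX hHX) (inv_mem hbX)
    rwa [show x * n * H * (x * n)⁻¹ = x * (n * H * n⁻¹) * x⁻¹ by group,
      show n * H * n⁻¹ = H' from hc'] at h1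
  have hex := mul_mem (inv_mem hP) (mul_mem (mul_mem hHX hP) (inv_mem hHX))
  obtain ⟨t0, ht0, ht0X⟩ : ∃ t0, t0 ≠ 0 ∧ t0 ∈ tPar hi X := by
    refine ⟨(1 - k) ^ 2, pow_ne_zero 2 (sub_ne_zero.2 (Ne.symm hk1)), _, ?_, hex⟩
    have hxT : HasT σ 1 x := ⟨0, rfl⟩
    have hA := hasT_conj hi hHfix hxT
    have hA' := hasT_inv hi hA
    have hB := hasT_mul hi (hasT_inv hi hxT) hA
    have hc'i : tor chevF4 auxF4 c'⁻¹ ∈ (tw σ).fix := by
      rw [map_inv]; exact inv_mem hH'fix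
    have hB' := hasT_conj hi hc'i hB
    have e1 : (x * H' * x⁻¹)⁻¹ * (H * (x * H' * x⁻¹) * H⁻¹) =
        x * (H'⁻¹ * (x⁻¹ * (H * x * H⁻¹)) * H') * (H * x * H⁻¹)⁻¹ := by
      have hcm : H * H' * H⁻¹ = H' := by
        rw [hH, hH', tor_mul_comm, mul_inv_cancel_right]
      rw [show H * (x * H' * x⁻¹) * H⁻¹ = (H * x * H⁻¹) * (H * H' * H⁻¹) * (H * x * H⁻¹)⁻¹ by group,
        hcm]
      group
    rw [map_inv, inv_inv, ← hH'] at hB'
    have hchiinv : (chi chevF4 auxF4 c'⁻¹ 25 : K) = k := by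
      have h := chi_mul (D := chevF4) (A := auxF4) c'⁻¹ c' 25
      rw [inv_mul_cancel, chi_one] at h
      have h' := congrArg (Units.val (α := K)) h
      rw [Units.val_one, Units.val_mul, hkk'] at h'
      have hk0 : k ≠ 0 := by
        intro h0
        rw [h0] at hkd
        exact d.ne_zero (by rw [← hkd]; ring)
      field_simp at h'
      exact h'.symm
    rw [hchiinv, hk25, mul_one] at hB'
    rw [hk25, mul_one] at hA'
    have hfin := hasT_mul hi (hasT_mul hi hxT hB') hA'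
    rw [e1, show (1 - k) ^ 2 = 1 + k * (1 + k) + k by
      rw [CharTwo.sub_eq_add]; linear_combination k * (CharTwo.two_eq_zero (R := K)) - k * (CharTwo.two_eq_zero (R := K))]
    exact hfin
  have tTop : ∀ t, t ∈ tPar hi X := by
    refine fun t => addSubgroup_top hκ (m := 1) (by simp) (S := tPar hi X) ?_ ht0X ht0 t
    have hkM : k ∈ mult (tPar hi X) := by
      rintro s ⟨g, hg, hgX⟩
      refine ⟨_, ?_, mul_mem (mul_mem hHX hgX) (inv_mem hHX)⟩
      have := hasT_conj hi hHfix hg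
      rwa [hk25] at this
    have h2 : σ k ∈ mult (tPar hi X) := by rw [hσ]; exact pow_mem hkM e
    rw [zpow_one, ← hkd]
    exact mul_mem (pow_mem hkM 3) (pow_mem h2 4)
  -- the centre of the class
  have uTop : ∀ u, u ∈ uPar (σ := σ) X := by
    have h1 : (1 : K) ∈ uPar (σ := σ) X := by
      obtain ⟨g, ⟨u, rfl⟩, hgX⟩ := tTop 1
      have := mul_mem hgX hgX
      show W (quad σ 0 1) ∈ X
      rw [quad, W_mul] at this
      simpa [quad, CharTwo.add_self_eq_zero, CharTwo.two_eq_zero] using this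
    refine fun u => addSubgroup_top hκ (m := 1) (by simp) (S := uPar (σ := σ) X) ?_ h1 one_ne_zero u
    set l : K := (d : K) ^ (1 : ℤ) * σ (d : K) ^ (-1 : ℤ) with hl
    have h28 : (chi chevF4 auxF4 c 28 : K) = l := hchi 28 _ _ (by decide +kernel) (by decide +kernel)
    have hlM : l ∈ mult (uPar (σ := σ) X) := by
      intro s hs
      have h := mul_mem (mul_mem hHX hs) (inv_mem hHX)
      have hf := mul_mem (mul_mem hHfix (W_quad_fix hi 0 s)) (inv_mem hHfix)
      rw [hH, tor_conj_W] at h hf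
      obtain ⟨w, hw⟩ := exists_quad hi hf
      rw [hw] at h
      have hw3 := congrArg (fun q : K × K × K × K => q.2.2.1) hw
      simp only [quad, map_zero, mul_zero, zero_add, h28] at hw3
      show W (quad σ 0 (l * s)) ∈ X
      rw [hw3]
      simpa [quad] using h
    have h2 : σ l ∈ mult (uPar (σ := σ) X) := by rw [hσ]; exact pow_mem hlM e
    have hld : ((d ^ (1 : ℤ) : Kˣ) : K) = l ^ 2 * σ l ^ 2 := by
      rw [hl, map_mul, map_zpow₀, map_zpow₀, zpow_one]
      simp only [zpow_one, _root_.zpow_neg, mul_pow, inv_pow]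
      rw [hi]
      field_simp
    rw [hld]
    exact mul_mem (pow_mem hlM 2) (pow_mem h2 2)
  have hW : ∀ t u, W (quad σ t u) ∈ X := by
    intro t u
    obtain ⟨g, ⟨u0, rfl⟩, hgX⟩ := tTop t
    have := mul_mem hgX (uTop (u + u0) : W (quad σ 0 (u + u0)) ∈ X)
    rw [quad, quad, W_mul] at this
    have h2 : σ u0 ^ 2 + σ (u + u0) ^ 2 = σ u ^ 2 := by
      rw [map_add, CharTwo.add_sq, add_comm (σ u ^ 2), ← add_assoc, CharTwo.add_self_eq_zero, zero_add]
    simp only [map_zero, mul_zero, zero_mul, add_zero, zero_add, ne_eq, OfNat.ofNat_ne_zero,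
      not_false_eq_true, zero_pow, h2] at this
    rw [show σ t * t + u0 + (u + u0) = σ t * t + u by
      linear_combination u0 * (CharTwo.two_eq_zero (R := K))] at this
    exact this
  have hnX : n ∈ X := by
    have := mul_mem (inv_mem (hW 1 0)) hbX
    rwa [← hx, inv_mul_cancel_left] at this
  -- the pair class
  have pTop : ∀ t, t ∈ pPar (σ := σ) X := by
    refine fun t => addSubgroup_top hκ (m := 1) (by simp) (S := pPar (σ := σ) X) ?_ (hyX : (1 : K) ∈ pPar (σ := σ) X) one_ne_zero t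
    have hH'X : H' ∈ X := hc' ▸ mul_mem (mul_mem hnX hHX) (inv_mem hnX)
    set l : K := (d : K) ^ (2 : ℤ) * σ (d : K) ^ (-2 : ℤ) with hl
    have h24 : (chi chevF4 auxF4 c' 24 : K) = l := by
      rw [show (24 : ℕ) = wf auxF4 [1, 2, 1, 2, 0, 3] 43 by decide +kernel, hchi' 43 (by decide +kernel)]
      exact hchi 43 _ _ (by decide +kernel) (by decide +kernel)
    have h33 : (chi chevF4 auxF4 c' 33 : K) = σ l := by
      rw [show (33 : ℕ) = wf auxF4 [1, 2, 1, 2, 0, 3] 38 by decide +kernel, hchi' 38 (by decide +kernel),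
        hchi 38 (-1) 2 (by decide +kernel) (by decide +kernel), hl, map_mul, map_zpow₀, map_zpow₀,
        _root_.zpow_neg_one, mul_comm, _root_.zpow_neg (σ (σ (d : K)))]
      congr 2
      rw [zpow_ofNat, hi]
    have hlM : l ∈ mult (pPar (σ := σ) X) := by
      intro s hs
      have h := mul_mem (mul_mem hH'X hs) (inv_mem hH'X)
      show xx 33 (σ (l * s)) * xx 24 (l * s) ∈ X
      rw [show H' * (xx 33 (σ s) * xx 24 s) * H'⁻¹ = (H' * xx 33 (σ s) * H'⁻¹) * (H' * xx 24 s * H'⁻¹)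
        by group, hH', xx, xx, tor_conj_xG stdF4.good c' (show 33 < chevF4.nroots by decide +kernel),
        tor_conj_xG stdF4.good c' (show 24 < chevF4.nroots by decide +kernel), h24, h33, ← map_mul] at h
      exact h
    have h2 : σ l ∈ mult (pPar (σ := σ) X) := by rw [hσ]; exact pow_mem hlM e
    have hld : ((d ^ (1 : ℤ) : Kˣ) : K) = l * σ l := by
      rw [hl, map_mul, map_zpow₀, map_zpow₀, zpow_one]
      simp only [_root_.zpow_neg, zpow_ofNat]
      rw [hi]
      field_simp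
    rw [hld]
    exact mul_mem hlM h2
  refine gen_le_flip hσ pTop hW (w := [1, 2, 1, 2, 0, 3] ++ [1, 2, 1, 2, 0, 3] ++
      [1, 2, 1, 2, 0, 3] ++ [1, 2, 1, 2, 0, 3]) ?_ ?_
    (by decide +kernel) (by decide +kernel) (by decide +kernel) (by decide +kernel)
    (by decide +kernel) (by decide +kernel)
  · unfold Letters; decide +kernel
  · have h4n := mul_mem (mul_mem (mul_mem hnX hnX) hnX) hnX
    simpa [hn, nW, mul_assoc] using h4n

end F4

end CfsgLib.Chev.TwoGen
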