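/-
Two generators for the groups of type twisted D4.
-/
import Cfsg.Agent.Lib.Chev.TwoGen.Fam
import Cfsg.Agent.Lib.Chev.TwoGen.TwistF4
import Cfsg.Agent.Lib.Chev.Twist.Fam.D4

set_option autoImplicit false
set_option maxRecDepth 100000

namespace CfsgLib.Chev.TwoGen.D4

open Cfsg.Lie Matrix CfsgLib.Chev.D43

variable {K : Type*} [Field K] {σ : K →+* K} {q : ℕ}

/-- the root element with the standard tables -/
noncomputable abbrev xx (r : ℕ) (t : K) : GL chevD4.Idx K := xG stdD4.good r t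

/-- the family of the short orbit -/
noncomputable def T (σ : K →+* K) (t : K) : GL chevD4.Idx K :=
  xx 18 t * xx 13 (σ t) * xx 12 (σ (σ t))

lemma cm {r s : ℕ} (h : commPair chevD4 auxD4 r s = true) (t u : K) (z : GL chevD4.Idx K) :
    xx r t * (xx s u * z) = xx s u * (xx r t * z) := (commute_xG stdD4 h t u).left_comm z

lemma madd (r : ℕ) (t u : K) (z : GL chevD4.Idx K) : xx r t * (xx r u * z) = xx r (t + u) * z := by
  rw [← mul_assoc, xx, xG_add]

lemma fam : Fam (T σ) := ⟨fun a b => by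
  rw [← mul_one (T σ a * T σ b), ← mul_one (T σ (a + b))]
  simp only [T, map_add, mul_assoc, cm (r := 12) (s := 18) (by decide +kernel),
    cm (r := 13) (s := 18) (by decide +kernel), cm (r := 12) (s := 13) (by decide +kernel), madd]⟩

lemma swap4 (t u : K) : xx 4 u * xx 18 t = xx 18 t * (xx 4 u * xx 9 (-(t * u))) := by
  have := xG_swap stdD4 (r := 18) (s := 4) (by decide +kernel) (by decide +kernel) (by decide)
    (by decide +kernel) t u
  rw [show auxD4.terms 18 4 = [(9, 1, 1, 1)] by decide +kernel] at this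
  simpa [xx, mul_assoc] using this

lemma swap7 (t u : K) : xx 7 u * xx 13 t = xx 13 t * (xx 7 u * xx 9 (t * u)) := by
  have := xG_swap stdD4 (r := 13) (s := 7) (by decide +kernel) (by decide +kernel) (by decide)
    (by decide +kernel) t u
  rw [show auxD4.terms 13 7 = [(9, -1, 1, 1)] by decide +kernel] at this
  simpa [xx, mul_assoc] using this

lemma swap8 (t u : K) : xx 8 u * xx 12 t = xx 12 t * (xx 8 u * xx 9 (t * u)) := by
  have := xG_swap stdD4 (r := 12) (s := 8) (by decide +kernel) (by decide +kernel) (by decide)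
    (by decide +kernel) t u
  rw [show auxD4.terms 12 8 = [(9, -1, 1, 1)] by decide +kernel] at this
  simpa [xx, mul_assoc] using this

lemma trace_rel (t : K) :
    xx 4 (-1) * xx 7 1 * xx 8 1 * T σ t =
      T σ t * (xx 4 (-1) * xx 7 1 * xx 8 1) * xx 9 (t + σ t + σ (σ t)) := by
  have s4 : ∀ (t u : K) z, xx 4 u * (xx 18 t * z) = xx 18 t * (xx 4 u * (xx 9 (-(t * u)) * z)) :=
    fun t u z => by rw [← mul_assoc, swap4, mul_assoc, mul_assoc]
  have s7 : ∀ (t u : K) z, xx 7 u * (xx 13 t * z) = xx 13 t * (xx 7 u * (xx 9 (t * u) * z)) :=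
    fun t u z => by rw [← mul_assoc, swap7, mul_assoc, mul_assoc]
  have s8 : ∀ (t u : K) z, xx 8 u * (xx 12 t * z) = xx 12 t * (xx 8 u * (xx 9 (t * u) * z)) :=
    fun t u z => by rw [← mul_assoc, swap8, mul_assoc, mul_assoc]
  rw [← mul_one (xx 4 (-1) * xx 7 1 * xx 8 1 * T σ t), ← mul_one (xx 9 (t + σ t + σ (σ t)))]
  simp only [T, mul_assoc, s4, s7, s8, cm (r := 4) (s := 13) (by decide +kernel),
    cm (r := 4) (s := 12) (by decide +kernel), cm (r := 7) (s := 18) (by decide +kernel),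
    cm (r := 7) (s := 12) (by decide +kernel), cm (r := 8) (s := 18) (by decide +kernel),
    cm (r := 8) (s := 13) (by decide +kernel), cm (r := 9) (s := 18) (by decide +kernel),
    cm (r := 9) (s := 13) (by decide +kernel), cm (r := 9) (s := 12) (by decide +kernel),
    cm (r := 9) (s := 4) (by decide +kernel), cm (r := 9) (s := 7) (by decide +kernel),
    cm (r := 9) (s := 8) (by decide +kernel), madd]
  ring_nf

theorem two_gen [Fintype K] (hσ : ∀ x, σ x = x ^ q) (hK : Fintype.card K = q ^ 3) :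
    ∃ a b : ↥(twistedD4 K q), Subgroup.closure ({a, b} : Set ↥(twistedD4 K q)) = ⊤ := by
  classical
  have hq := two_le hK
  have hinv := invol hσ hK
  obtain ⟨d, hκ⟩ := IsCyclic.exists_generator (α := Kˣ)
  set s1 : Kˣ := Units.map σ.toMonoidHom d with hs1
  set s2 : Kˣ := Units.map σ.toMonoidHom s1 with hs2
  set c := expT chevD4 [1, 0, 0, 0] d * expT chevD4 [0, 0, 1, 0] s1 * expT chevD4 [0, 0, 0, 1] s2
    with hc
  have hchi : ∀ (r : ℕ) (i j l : ℤ), pair chevD4 auxD4 [1, 0, 0, 0] r = i →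
      pair chevD4 auxD4 [0, 0, 1, 0] r = j → pair chevD4 auxD4 [0, 0, 0, 1] r = l →
      (chi chevD4 auxD4 c r : K) = (d : K) ^ i * σ (d : K) ^ j * σ (σ (d : K)) ^ l := by
    intro r i j l e1 e2 e3
    rw [hc, chi_mul, chi_mul, chi_expT, chi_expT, chi_expT, e1, e2, e3, Units.val_mul, Units.val_mul,
      Units.val_zpow_eq_zpow_val, Units.val_zpow_eq_zpow_val, Units.val_zpow_eq_zpow_val]
    rfl
  have hcfix : c ∈ (tw σ).thetaFix := by
    have hcv : ∀ i : Fin 4, c (ix i) = d ^ [(1 : ℤ), 0, 0, 0].getD i.val 0 *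
        s1 ^ [(0 : ℤ), 0, 1, 0].getD i.val 0 * s2 ^ [(0 : ℤ), 0, 0, 1].getD i.val 0 := fun i => rfl
    refine (thetaFix_iff _).2 ⟨?_, ?_, ?_, ?_⟩
    · rw [hcv, hcv]; simp [hs1, hs2, hinv]
    · rw [hcv]; simp
    · rw [hcv, hcv]; simp [hs1]
    · rw [hcv, hcv]; simp [hs1, hs2]
  set H : GL chevD4.Idx K := tor chevD4 auxD4 c with hH
  have hHfix : H ∈ (tw σ).fix :=
    ((tw σ).tor_mem_fix_iff _).2 (congrArg _ ((tw σ).mem_thetaFix.1 hcfix))
  have hfixeq := twisted_eq_fix (σ := σ) hσ hK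
  have hlet : Letters chevD4 [1, 0, 2, 3] := by unfold Letters; decide +kernel
  set n := nW K stdD4.good [1, 0, 2, 3] with hn
  have hnmem : n ∈ twistedD4 K q := by
    have e : n = (tw σ).nJ 0 * (tw σ).nJ 1 := by
      show _ = nW K stdD4.good [1] * nW K stdD4.good [0, 2, 3]
      simp [hn, nW, mul_assoc]
    rw [e]
    exact mul_mem (nJ_mem hσ 0 (by decide)) (nJ_mem hσ 1 (by decide))
  have hT1 : T σ 1 ∈ twistedD4 K q := by
    have e : (d4p1, d4p3, d4p4) = (18, 13, 12) := by decide +kernel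
    have := word3p hσ (1 : K)
    simp only [Prod.mk.injEq] at e
    rwa [e.1, e.2.1, e.2.2] at this
  refine exists_pair_of (a := H) (b := T σ 1 * n) (by rw [hfixeq]; exact hHfix)
    (mul_mem hT1 hnmem) ?_
  set X := Subgroup.closure {H, T σ 1 * n}
  have hHX : H ∈ X := Subgroup.subset_closure (Set.mem_insert _ _)
  have hbX : T σ 1 * n ∈ X := Subgroup.subset_closure (Set.mem_insert_of_mem _ rfl)
  -- the characters
  obtain ⟨c', hc'⟩ := monomial_conj_tor stdD4.good (nW_mem (F := K) stdD4.good hlet) c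
  set H' : GL chevD4.Idx K := tor chevD4 auxD4 c' with hH'
  have hchi' : ∀ (r r₀ : ℕ), r₀ < chevD4.nroots → wf auxD4 [1, 0, 2, 3] r₀ = r →
      chi chevD4 auxD4 c' r = chi chevD4 auxD4 c r₀ := fun r r₀ hr₀ e =>
    e ▸ chi_conj stdD4.good hlet hc' hr₀
  set k : K := (d : K) ^ 2 with hk
  set k' : K := (d : K)⁻¹ * σ (d : K) * σ (σ (d : K)) with hk'
  have conjT : ∀ (v : Fin chevD4.rank → Kˣ) (l : K), (chi chevD4 auxD4 v 18 : K) = l →
      (chi chevD4 auxD4 v 13 : K) = σ l → (chi chevD4 auxD4 v 12 : K) = σ (σ l) → ∀ t,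
      tor chevD4 auxD4 v * T σ t * (tor chevD4 auxD4 v)⁻¹ = T σ (l * t) := by
    intro v l e1 e2 e3 t
    rw [T, show ∀ h a b c : GL chevD4.Idx K, h * (a * b * c) * h⁻¹ =
      (h * a * h⁻¹) * (h * b * h⁻¹) * (h * c * h⁻¹) from fun h a b c => by group]
    simp only [xx]
    rw [tor_conj_xG stdD4.good v (show 18 < chevD4.nroots by decide +kernel),
      tor_conj_xG stdD4.good v (show 13 < chevD4.nroots by decide +kernel),
      tor_conj_xG stdD4.good v (show 12 < chevD4.nroots by decide +kernel), e1, e2, e3]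
    simp [T, xx]
  have hHT : ∀ t, H * T σ t * H⁻¹ = T σ (k * t) := conjT c k
    (by rw [hchi 18 2 0 0 (by decide +kernel) (by decide +kernel) (by decide +kernel)]; simp [hk, zpow_ofNat])
    (by rw [hchi 13 0 2 0 (by decide +kernel) (by decide +kernel) (by decide +kernel)]; simp [hk, zpow_ofNat])
    (by rw [hchi 12 0 0 2 (by decide +kernel) (by decide +kernel) (by decide +kernel)]; simp [hk, zpow_ofNat])
  have hH'T : ∀ t, H' * T σ t * H'⁻¹ = T σ (k' * t) := conjT c' k'
    (by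
      rw [hchi' 18 17 (by decide +kernel) (by decide +kernel),
        hchi 17 (-1) 1 1 (by decide +kernel) (by decide +kernel) (by decide +kernel)]
      simp [hk'])
    (by
      rw [hchi' 13 20 (by decide +kernel) (by decide +kernel),
        hchi 20 1 (-1) 1 (by decide +kernel) (by decide +kernel) (by decide +kernel)]
      simp [hk', hinv]; ring)
    (by
      rw [hchi' 12 21 (by decide +kernel) (by decide +kernel),
        hchi 21 1 1 (-1) (by decide +kernel) (by decide +kernel) (by decide +kernel)]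
      simp [hk', hinv]; ring)
  have h8 : 8 ≤ Fintype.card K := by
    rw [hK]; calc 8 = 2 ^ 3 := by norm_num
      _ ≤ q ^ 3 := Nat.pow_le_pow_left hq 3
  have hd2 : k ≠ 1 := by
    have := pow_small_ne_one (by omega) hκ (m := 2) (by simp)
    rw [hk]
    intro e
    exact this (by rw [zpow_ofNat]; exact Units.ext (by simpa using e))
  have hσd : σ (d : K) ≠ 0 := (map_ne_zero σ).2 d.ne_zero
  have hσσd : σ (σ (d : K)) ≠ 0 := (map_ne_zero σ).2 hσd
  have hk'0 : k' ≠ 0 := mul_ne_zero (mul_ne_zero (inv_ne_zero d.ne_zero) hσd) hσσd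
  have hk'1 : k' ≠ 1 := by
    intro e
    have h1 : σ (d : K) * σ (σ (d : K)) = d := by
      rw [hk'] at e; field_simp at e; exact e
    have h2 := congrArg σ h1
    rw [map_mul, hinv] at h2
    have h3 : σ (σ (d : K)) ^ 2 = 1 := by
      have : σ (σ (d : K)) ^ 2 * (σ (d : K) * (d : K)) = 1 * (σ (d : K) * (d : K)) := by
        calc σ (σ (d : K)) ^ 2 * (σ (d : K) * (d : K))
            = (σ (d : K) * σ (σ (d : K))) * (σ (σ (d : K)) * (d : K)) := by ring
          _ = _ := by rw [h1, h2, one_mul, mul_comm]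
      exact mul_right_cancel₀ (mul_ne_zero hσd d.ne_zero) this
    refine hd2 ?_
    have := congrArg σ h3
    rwa [map_pow, hinv, map_one] at this
  obtain ⟨e0, he0, he0X⟩ := fam.extract (T := T σ) (H := H) (H' := H') (n := n)
    (tor_mul_comm c c') hc' hHT hH'T hd2 hk'1 hk'0 hHX hbX
  have hTop : ∀ t, T σ t ∈ X := fam.full hκ (m := 2) (by simp) hHX
    (fun t => by rw [hHT, hk, zpow_ofNat, Units.val_pow_eq_pow_val]) he0 he0X
  have hnX : n ∈ X := by
    have := mul_mem (inv_mem (hTop 1)) hbX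
    rwa [inv_mul_cancel_left] at this
  -- images under the monomial element
  have himg : ∀ (w : List ℕ), Letters chevD4 w → ∀ t : K,
      nW K stdD4.good w * T σ t * (nW K stdD4.good w)⁻¹ =
        xx (wf auxD4 w 18) ((sgnW auxD4 w 18 : K) * t) * xx (wf auxD4 w 13) ((sgnW auxD4 w 13 : K) * σ t) *
          xx (wf auxD4 w 12) ((sgnW auxD4 w 12 : K) * σ (σ t)) := fun w hw t => by
    rw [T, show ∀ h a b c : GL chevD4.Idx K, h * (a * b * c) * h⁻¹ =
      (h * a * h⁻¹) * (h * b * h⁻¹) * (h * c * h⁻¹) from fun h a b c => by group]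
    simp only [xx]
    rw [nW_conj_xG stdD4.good hw (show 18 < chevD4.nroots by decide +kernel),
      nW_conj_xG stdD4.good hw (show 13 < chevD4.nroots by decide +kernel),
      nW_conj_xG stdD4.good hw (show 12 < chevD4.nroots by decide +kernel)]
  have h9 : ∀ s, σ s = s → xx 9 s ∈ X := by
    intro s hs
    let f : K →+ K :=
      { toFun := fun t => t + σ t + σ (σ t)
        map_zero' := by simp
        map_add' := fun a b => by simp only [map_add]; ring }
    have hf : ∀ t, f t = t + σ t + σ (σ t) := fun _ => rfl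
    obtain ⟨t, ht⟩ := exists_fixed_preimage f σ
      (fun a x ha => by rw [hf, hf, map_mul, map_mul, ha, ha]; ring)
      (fun x => by rw [hf, map_add, map_add, hinv]; ring)
      (by
        obtain ⟨x, hx⟩ := exists_trace_three hq hK
        exact ⟨x, by rwa [hf, hσ, hσ, ← pow_mul, ← sq]⟩) hs
    rw [hf] at ht
    have hB : xx 4 (-1) * xx 7 1 * xx 8 1 ∈ X := by
      have := mul_mem (mul_mem hnX (hTop 1)) (inv_mem hnX)
      rw [hn, himg _ hlet, show wf auxD4 [1, 0, 2, 3] 18 = 4 by decide +kernel,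
        show wf auxD4 [1, 0, 2, 3] 13 = 7 by decide +kernel,
        show wf auxD4 [1, 0, 2, 3] 12 = 8 by decide +kernel,
        show sgnW auxD4 [1, 0, 2, 3] 18 = -1 by decide +kernel,
        show sgnW auxD4 [1, 0, 2, 3] 13 = 1 by decide +kernel,
        show sgnW auxD4 [1, 0, 2, 3] 12 = 1 by decide +kernel] at this
      simpa using this
    have := mul_mem (inv_mem (mul_mem (hTop t) hB)) (mul_mem hB (hTop t))
    rwa [trace_rel, inv_mul_cancel_left, ht] at this
  have hlet3 : Letters chevD4 [1, 0, 2, 3, 1, 0, 2, 3, 1, 0, 2, 3] := by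
    unfold Letters; decide +kernel
  have hn3 : nW K stdD4.good [1, 0, 2, 3, 1, 0, 2, 3, 1, 0, 2, 3] ∈ X := by
    have h3n := mul_mem (mul_mem hnX hnX) hnX
    simpa [hn, nW, mul_assoc] using h3n
  have hneg : ∀ t : K, xx 5 t * xx 10 (σ t) * xx 11 (σ (σ t)) ∈ X := by
    intro t
    have := mul_mem (mul_mem hn3 (hTop (-t))) (inv_mem hn3)
    rw [himg _ hlet3, show wf auxD4 [1, 0, 2, 3, 1, 0, 2, 3, 1, 0, 2, 3] 18 = 5 by decide +kernel,
      show wf auxD4 [1, 0, 2, 3, 1, 0, 2, 3, 1, 0, 2, 3] 13 = 10 by decide +kernel,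
      show wf auxD4 [1, 0, 2, 3, 1, 0, 2, 3, 1, 0, 2, 3] 12 = 11 by decide +kernel,
      show sgnW auxD4 [1, 0, 2, 3, 1, 0, 2, 3, 1, 0, 2, 3] 18 = -1 by decide +kernel,
      show sgnW auxD4 [1, 0, 2, 3, 1, 0, 2, 3, 1, 0, 2, 3] 13 = -1 by decide +kernel,
      show sgnW auxD4 [1, 0, 2, 3, 1, 0, 2, 3, 1, 0, 2, 3] 12 = -1 by decide +kernel] at this
    simpa using this
  have h14 : ∀ s, σ s = s → xx 14 s ∈ X := by
    intro s hs
    set e : ℤ := sgnW auxD4 [1, 0, 2, 3, 1, 0, 2, 3, 1, 0, 2, 3] 9 with he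
    have he2 : (e : K) * (e : K) = 1 := by
      rcases sgnW_cases stdD4.good hlet3 (r := 9) (by decide +kernel) with h | h <;> simp [he, h]
    have := conj_word stdD4.good hlet3 hn3 (r := 9) (by decide +kernel)
      (h9 ((e : K) * s) (by rw [map_mul, map_intCast, hs]))
    rw [show wf auxD4 [1, 0, 2, 3, 1, 0, 2, 3, 1, 0, 2, 3] 9 = 14 by decide +kernel, ← he,
      ← mul_assoc, he2, one_mul] at this
    exact this
  rw [twistedD4, genSubgroup_eq stdD4.good, Subgroup.closure_le]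
  rintro y ⟨w, hw, rfl⟩
  have eI : d4p1 = 18 ∧ d4p2 = 14 ∧ d4p3 = 13 ∧ d4p4 = 12 ∧ d4m1 = 5 ∧ d4m2 = 9 ∧ d4m3 = 10 ∧
      d4m4 = 11 := by decide +kernel
  obtain ⟨i1, i2, i3, i4, j1, j2, j3, j4⟩ := eI
  rcases hw with ⟨t, ht, r, hr, rfl⟩ | ⟨t, rs, hrs, rfl⟩
  · simp only [List.map_cons, List.map_nil, List.prod_cons, List.prod_nil, mul_one, SetLike.mem_coe]
    rw [i2, j2] at hr
    simp only [List.mem_cons, List.not_mem_nil, or_false] at hr
    have ht' : σ t = t := by rw [hσ]; exact ht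
    rcases hr with rfl | rfl
    exacts [h14 t ht', h9 t ht']
  · simp only [List.map_cons, List.map_nil, List.prod_cons, List.prod_nil, mul_one, SetLike.mem_coe]
    rw [← hσ, show t ^ q ^ 2 = σ (σ t) by rw [hσ, hσ, ← pow_mul, sq], ← mul_assoc]
    rw [i1, i3, i4, j1, j3, j4] at hrs
    simp only [List.mem_cons, List.not_mem_nil, or_false] at hrs
    rcases hrs with rfl | rfl
    exacts [hTop t, hneg t]

end CfsgLib.Chev.TwoGen.D4
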