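/-
Two generators for the groups of type twisted E6.
-/
import Cfsg.Agent.Lib.Chev.TwoGen.Fam
import Cfsg.Agent.Lib.Chev.TwoGen.TwistF4
import Cfsg.Agent.Lib.Chev.Twist.Fam.E6

set_option autoImplicit false
set_option maxRecDepth 100000

namespace CfsgLib.Chev.TwoGen.E6

open Cfsg.Lie Matrix CfsgLib.Chev.E62

variable {K : Type*} [Field K] {σ : K →+* K} {q : ℕ}

/-- the root element with the standard tables -/
noncomputable abbrev xx (r : ℕ) (t : K) : GL chevE6.Idx K := xG stdE6.good r t

/-- a family on a pair of roots -/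
noncomputable def T (σ : K →+* K) (a b : ℕ) (t : K) : GL chevE6.Idx K := xx a t * xx b (σ t)

/-- the Coxeter word -/
def cw : List ℕ := [1, 3, 2, 4, 0, 5]

/-- powers of the Coxeter word -/
def cwPow (k : ℕ) : List ℕ := (List.replicate k cw).flatten

lemma cm {r s : ℕ} (h : commPair chevE6 auxE6 r s = true) (t u : K) (z : GL chevE6.Idx K) :
    xx r t * (xx s u * z) = xx s u * (xx r t * z) := (commute_xG stdE6 h t u).left_comm z

lemma madd (r : ℕ) (t u : K) (z : GL chevE6.Idx K) : xx r t * (xx r u * z) = xx r (t + u) * z := by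
  rw [← mul_assoc, xx, xG_add]

lemma fam : Fam (T σ 42 37) := ⟨fun a b => by
  rw [← mul_one (T σ 42 37 a * T σ 42 37 b), ← mul_one (T σ 42 37 (a + b))]
  simp only [T, map_add, mul_assoc, cm (r := 37) (s := 42) (by decide +kernel), madd]⟩

lemma swap28 (t u : K) : xx 28 u * xx 42 t = xx 42 t * (xx 28 u * xx 32 (-(t * u))) := by
  have e : auxE6.terms 42 28 = [(32, 1, 1, 1)] := by decide +kernel
  have := xG_swap stdE6 (r := 42) (s := 28) (by decide +kernel) (by decide +kernel) (by decide)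
    (by decide +kernel) t u
  rw [e] at this
  simpa [xx, mul_assoc] using this

lemma swap31 (t u : K) : xx 31 u * xx 37 t = xx 37 t * (xx 31 u * xx 32 (t * u)) := by
  have e : auxE6.terms 37 31 = [(32, -1, 1, 1)] := by decide +kernel
  have := xG_swap stdE6 (r := 37) (s := 31) (by decide +kernel) (by decide +kernel) (by decide)
    (by decide +kernel) t u
  rw [e] at this
  simpa [xx, mul_assoc] using this

lemma trace_rel (t : K) :
    xx 31 1 * xx 28 (-1) * T σ 42 37 t =
      T σ 42 37 t * (xx 31 1 * xx 28 (-1)) * xx 32 (t + σ t) := by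
  have s28 : ∀ (t u : K) z, xx 28 u * (xx 42 t * z) = xx 42 t * (xx 28 u * (xx 32 (-(t * u)) * z)) :=
    fun t u z => by rw [← mul_assoc, swap28, mul_assoc, mul_assoc]
  have s31 : ∀ (t u : K) z, xx 31 u * (xx 37 t * z) = xx 37 t * (xx 31 u * (xx 32 (t * u) * z)) :=
    fun t u z => by rw [← mul_assoc, swap31, mul_assoc, mul_assoc]
  rw [← mul_one (xx 31 1 * xx 28 (-1) * T σ 42 37 t), ← mul_one (xx 32 (t + σ t))]
  simp only [T, mul_assoc, s28, s31, cm (r := 31) (s := 42) (by decide +kernel),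
    cm (r := 28) (s := 37) (by decide +kernel), cm (r := 32) (s := 42) (by decide +kernel),
    cm (r := 32) (s := 37) (by decide +kernel), cm (r := 32) (s := 31) (by decide +kernel),
    cm (r := 32) (s := 28) (by decide +kernel), madd]
  ring_nf

theorem two_gen [Fintype K] (hσ : ∀ x, σ x = x ^ q) (hK : Fintype.card K = q ^ 2) (hq : 2 ≤ q) :
    ∃ a b : ↥(twistedE6 K q), Subgroup.closure ({a, b} : Set ↥(twistedE6 K q)) = ⊤ := by
  classical
  have hinv := invol hσ hK
  obtain ⟨d, hκ⟩ := IsCyclic.exists_generator (α := Kˣ)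
  set s1 : Kˣ := Units.map σ.toMonoidHom d with hs1
  set c := expT chevE6 [0, 0, 1, 0, 0, 0] d * expT chevE6 [0, 0, 0, 0, 1, 0] s1 with hc
  have hchi : ∀ (r : ℕ) (i j : ℤ), pair chevE6 auxE6 [0, 0, 1, 0, 0, 0] r = i →
      pair chevE6 auxE6 [0, 0, 0, 0, 1, 0] r = j →
      (chi chevE6 auxE6 c r : K) = (d : K) ^ i * σ (d : K) ^ j := by
    intro r i j e1 e2
    rw [hc, chi_mul, chi_expT, chi_expT, e1, e2, Units.val_mul, Units.val_zpow_eq_zpow_val,
      Units.val_zpow_eq_zpow_val]
    rfl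
  have hcfix : c ∈ (tw σ).thetaFix := by
    have hcv : ∀ i : Fin 6, c (ix i) = d ^ [(0 : ℤ), 0, 1, 0, 0, 0].getD i.val 0 *
        s1 ^ [(0 : ℤ), 0, 0, 0, 1, 0].getD i.val 0 := fun i => rfl
    refine (thetaFix_iff _).2 ⟨?_, ?_, ?_, ?_, ?_, ?_⟩ <;> simp [hcv, hs1, hinv]
  set H : GL chevE6.Idx K := tor chevE6 auxE6 c with hH
  have hHfix : H ∈ (tw σ).fix :=
    ((tw σ).tor_mem_fix_iff _).2 (congrArg _ ((tw σ).mem_thetaFix.1 hcfix))
  have hfixeq := twisted_eq_fix (σ := σ) hσ hK
  have hletk : ∀ k, Letters chevE6 (cwPow k) := by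
    intro k i hi
    obtain ⟨l, hl, hil⟩ := List.mem_flatten.1 hi
    rw [(List.mem_replicate.1 hl).2] at hil
    exact (show ∀ i ∈ cw, i < chevE6.rank by decide +kernel) i hil
  have hlet : Letters chevE6 cw := (show ∀ i ∈ cw, i < chevE6.rank by decide +kernel)
  set n := nW K stdE6.good cw with hn
  have hnmem : n ∈ twistedE6 K q := by
    have e : n = (tw σ).nJ 0 * (tw σ).nJ 1 * (tw σ).nJ 2 * (tw σ).nJ 3 := by
      show _ = nW K stdE6.good [1] * nW K stdE6.good [3] * nW K stdE6.good [2, 4] *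
        nW K stdE6.good [0, 5]
      simp [hn, cw, nW, mul_assoc]
    rw [e]
    exact mul_mem (mul_mem (mul_mem (nJ_mem hσ 0 (by decide)) (nJ_mem hσ 1 (by decide)))
      (nJ_mem hσ 2 (by decide))) (nJ_mem hσ 3 (by decide))
  have eI : e6p1 = 56 ∧ e6p2 = 46 ∧ e6p3 = 42 ∧ e6p4 = 39 ∧ e6p5 = 37 ∧ e6p6 = 36 ∧
      e6m1 = 15 ∧ e6m2 = 25 ∧ e6m3 = 29 ∧ e6m4 = 32 ∧ e6m5 = 34 ∧ e6m6 = 35 := by decide +kernel
  obtain ⟨i1, i2, i3, i4, i5, i6, j1, j2, j3, j4, j5, j6⟩ := eI
  have hT1 : T σ 42 37 1 ∈ twistedE6 K q := by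
    have := word2 hσ (r := e6p3) (s := e6p5) (by simp) (1 : K)
    rwa [i3, i5] at this
  refine exists_pair_of (a := H) (b := T σ 42 37 1 * n) (by rw [hfixeq]; exact hHfix)
    (mul_mem hT1 hnmem) ?_
  set X := Subgroup.closure {H, T σ 42 37 1 * n}
  have hHX : H ∈ X := Subgroup.subset_closure (Set.mem_insert _ _)
  have hbX : T σ 42 37 1 * n ∈ X := Subgroup.subset_closure (Set.mem_insert_of_mem _ rfl)
  obtain ⟨c', hc'⟩ := monomial_conj_tor stdE6.good (nW_mem (F := K) stdE6.good hlet) c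
  set H' : GL chevE6.Idx K := tor chevE6 auxE6 c' with hH'
  have hchi' : ∀ (r r₀ : ℕ), r₀ < chevE6.nroots → wf auxE6 cw r₀ = r →
      chi chevE6 auxE6 c' r = chi chevE6 auxE6 c r₀ := fun r r₀ hr₀ e =>
    e ▸ chi_conj stdE6.good hlet hc' hr₀
  have conjT : ∀ (v : Fin chevE6.rank → Kˣ) (l : K), (chi chevE6 auxE6 v 42 : K) = l →
      (chi chevE6 auxE6 v 37 : K) = σ l → ∀ t,
      tor chevE6 auxE6 v * T σ 42 37 t * (tor chevE6 auxE6 v)⁻¹ = T σ 42 37 (l * t) := by
    intro v l e1 e2 t
    rw [T, show ∀ h a b : GL chevE6.Idx K, h * (a * b) * h⁻¹ = (h * a * h⁻¹) * (h * b * h⁻¹)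
      from fun h a b => by group]
    simp only [xx]
    rw [tor_conj_xG stdE6.good v (show 42 < chevE6.nroots by decide +kernel),
      tor_conj_xG stdE6.good v (show 37 < chevE6.nroots by decide +kernel), e1, e2]
    simp [T, xx]
  have hHT : ∀ t, H * T σ 42 37 t * H⁻¹ = T σ 42 37 ((d : K) ^ 2 * t) := conjT c _
    (by rw [hchi 42 2 0 (by decide +kernel) (by decide +kernel)]; simp [zpow_ofNat])
    (by rw [hchi 37 0 2 (by decide +kernel) (by decide +kernel)]; simp [zpow_ofNat])
  have hH'T : ∀ t, H' * T σ 42 37 t * H'⁻¹ = T σ 42 37 ((d : K)⁻¹ * t) := conjT c' _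
    (by
      rw [hchi' 42 41 (by decide +kernel) (by decide +kernel),
        hchi 41 (-1) 0 (by decide +kernel) (by decide +kernel)]
      simp)
    (by
      rw [hchi' 37 58 (by decide +kernel) (by decide +kernel),
        hchi 58 0 (-1) (by decide +kernel) (by decide +kernel)]
      simp)
  have h4 : 4 ≤ Fintype.card K := by
    rw [hK]; calc 4 = 2 ^ 2 := by norm_num
      _ ≤ q ^ 2 := Nat.pow_le_pow_left hq 2
  have hd2 : (d : K) ^ 2 ≠ 1 := fun e =>
    pow_small_ne_one h4 hκ (m := 2) (by simp) (by rw [zpow_ofNat]; exact Units.ext (by simpa using e))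
  have hd1 : (d : K)⁻¹ ≠ 1 := fun e => by
    rw [inv_eq_one] at e
    exact hd2 (by rw [e, one_pow])
  obtain ⟨e0, he0, he0X⟩ := fam.extract (T := T σ 42 37) (H := H) (H' := H') (n := n)
    (tor_mul_comm c c') hc' hHT hH'T hd2 hd1 (inv_ne_zero d.ne_zero) hHX hbX
  have hTop : ∀ t, T σ 42 37 t ∈ X := fam.full hκ (m := 2) (by simp) hHX
    (fun t => by rw [hHT, zpow_ofNat, Units.val_pow_eq_pow_val]) he0 he0X
  have hnX : n ∈ X := by
    have := mul_mem (inv_mem (hTop 1)) hbX
    rwa [inv_mul_cancel_left] at this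
  have hnk : ∀ k, nW K stdE6.good (cwPow k) ∈ X := by
    intro k
    rw [cwPow, ← nW_pow']
    exact pow_mem hnX k
  -- images of the family
  have himg : ∀ (k a b : ℕ) (e1 e2 : ℤ), wf auxE6 (cwPow k) 42 = a → wf auxE6 (cwPow k) 37 = b →
      sgnW auxE6 (cwPow k) 42 = e1 → sgnW auxE6 (cwPow k) 37 = e2 → ∀ t : K,
      xx a ((e1 : K) * t) * xx b ((e2 : K) * σ t) ∈ X := by
    intro k a b e1 e2 ea eb h1 h2 t
    have := mul_mem (mul_mem (hnk k) (hTop t)) (inv_mem (hnk k))
    rw [T, show ∀ h a b : GL chevE6.Idx K, h * (a * b) * h⁻¹ = (h * a * h⁻¹) * (h * b * h⁻¹)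
      from fun h a b => by group] at this
    simp only [xx] at this
    rw [nW_conj_xG stdE6.good (hletk k) (show 42 < chevE6.nroots by decide +kernel),
      nW_conj_xG stdE6.good (hletk k) (show 37 < chevE6.nroots by decide +kernel), ea, eb, h1, h2]
      at this
    exact this
  have h56 : ∀ t, xx 56 t * xx 36 (σ t) ∈ X := fun t => by
    have := himg 1 56 36 1 1 (by decide +kernel) (by decide +kernel) (by decide +kernel)
      (by decide +kernel) t
    simpa using this
  have h29 : ∀ t, xx 29 t * xx 34 (σ t) ∈ X := fun t => by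
    have := himg 6 34 29 (-1) (-1) (by decide +kernel) (by decide +kernel) (by decide +kernel)
      (by decide +kernel) (-σ t)
    simp only [Int.cast_neg, Int.cast_one, neg_mul, one_mul, neg_neg, map_neg, hinv] at this
    rwa [show xx 34 (σ t) * xx 29 t = xx 29 t * xx 34 (σ t) from
      (commute_xG stdE6 (r := 34) (s := 29) (by decide +kernel) (σ t) t).eq] at this
  have h15 : ∀ t, xx 15 t * xx 35 (σ t) ∈ X := fun t => by
    have h := himg 7 35 15 (-1) (-1) (by decide +kernel) (by decide +kernel) (by decide +kernel)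
      (by decide +kernel) (-σ t)
    simp only [Int.cast_neg, Int.cast_one, neg_mul, one_mul, neg_neg, map_neg, hinv] at h
    rwa [show xx 35 (σ t) * xx 15 t = xx 15 t * xx 35 (σ t) from
      (commute_xG stdE6 (r := 35) (s := 15) (by decide +kernel) (σ t) t).eq] at h
  have h32 : ∀ s, σ s = s → xx 32 s ∈ X := by
    intro s hs
    let f : K →+ K :=
      { toFun := fun t => t + σ t
        map_zero' := by simp
        map_add' := fun a b => by simp only [map_add]; ring }
    have hf : ∀ t, f t = t + σ t := fun _ => rfl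
    obtain ⟨t, ht⟩ := exists_fixed_preimage f σ
      (fun a x ha => by rw [hf, hf, map_mul, ha]; ring)
      (fun x => by rw [hf, map_add, hinv]; ring)
      (by
        obtain ⟨x, hx⟩ := exists_trace_two hq hK
        exact ⟨x, by rwa [hf, hσ]⟩) hs
    rw [hf] at ht
    have hB : xx 31 1 * xx 28 (-1) ∈ X := by
      have := himg 3 31 28 1 (-1) (by decide +kernel) (by decide +kernel) (by decide +kernel)
        (by decide +kernel) 1
      simpa using this
    have := mul_mem (inv_mem (mul_mem (hTop t) hB)) (mul_mem hB (hTop t))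
    rwa [trace_rel, inv_mul_cancel_left, ht] at this
  have hsingle : ∀ k r, wf auxE6 (cwPow k) 32 = r → ∀ s, σ s = s → xx r s ∈ X := by
    intro k r hr s hs
    set e : ℤ := sgnW auxE6 (cwPow k) 32 with he
    have he2 : (e : K) * (e : K) = 1 := by
      rcases sgnW_cases stdE6.good (hletk k) (r := 32) (by decide +kernel) with h | h <;> simp [he, h]
    have := conj_word stdE6.good (hletk k) (hnk k) (r := 32) (by decide +kernel)
      (h32 ((e : K) * s) (by rw [map_mul, map_intCast, hs]))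
    rw [hr, ← he, ← mul_assoc, he2, one_mul] at this
    exact this
  rw [twistedE6, genSubgroup_eq stdE6.good, Subgroup.closure_le]
  rintro y ⟨w, hw, rfl⟩
  rcases hw with ⟨t, ht, r, hr, rfl⟩ | ⟨t, rs, hrs, rfl⟩
  · simp only [List.map_cons, List.map_nil, List.prod_cons, List.prod_nil, mul_one, SetLike.mem_coe]
    rw [i2, j2, i4, j4] at hr
    simp only [List.mem_cons, List.not_mem_nil, or_false] at hr
    have ht' : σ t = t := by rw [hσ]; exact ht
    rcases hr with rfl | rfl | rfl | rfl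
    exacts [hsingle 5 46 (by decide +kernel) t ht', hsingle 11 25 (by decide +kernel) t ht',
      hsingle 6 39 (by decide +kernel) t ht', h32 t ht']
  · simp only [List.map_cons, List.map_nil, List.prod_cons, List.prod_nil, mul_one, SetLike.mem_coe]
    rw [← hσ]
    rw [i1, i6, j1, j6, i3, i5, j3, j5] at hrs
    simp only [List.mem_cons, List.not_mem_nil, or_false] at hrs
    rcases hrs with rfl | rfl | rfl | rfl
    exacts [h56 t, h15 t, hTop t, h29 t]
where
  nW_pow' : ∀ {k : ℕ}, nW K stdE6.good cw ^ k = nW K stdE6.good (List.replicate k cw).flatten := by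
    intro k
    induction k with
    | zero => simp [nW]
    | succ k ih =>
      rw [pow_succ', ih, List.replicate_succ, List.flatten_cons]
      simp [nW, List.map_append, List.prod_append]

end CfsgLib.Chev.TwoGen.E6
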